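import Cfsg.Agent.H905.MdE
import Cfsg.Agent.Nodes.TypeC

/-!
# Simple modules for a root group datum of type `B_2` (helper69, TEAM PPD)

* **`dim_b2`** : if the last node `1` is not in `J` then `4 dim V^U + 4 dim (interior of the edge 1) ≤ dim V`;
* **`le_b2`** : `4 dim Le {1} ≤ dim V + 4` if `dim V^U = 1`.
-/

set_option autoImplicit false
set_option linter.unusedSectionVars false

namespace Cfsg.Agent.H69.Ppd

open CoxeterSystem Cfsg.Agent.ChevalleyStructure.CoxeterGeom Cfsg.Agent.Tits.Roots Cfsg.Agent.Tits.Core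
  Cfsg.Agent.Tits.Exchange Cfsg.Agent.Nodes.Reps Cfsg.Agent.Nodes.BNOf Cfsg.Agent.Nodes.StabComb
  Cfsg.Agent.Nodes.Bruhat Cfsg.Agent.Nodes.OppDec Cfsg.Agent.Nodes.LeviDec Cfsg.Agent.KFacts.RgdOpp
  Cfsg.Agent.Omega.CR Cfsg.Agent.Omega.FOne.Lift.Sd Cfsg.Agent.H905.Md
open Cfsg.Agent.Nodes.TypeC (isCartan A_apply A)

variable {Wg : Type*} [Group Wg] (cs : CoxeterSystem (CoxeterMatrix.B 2) Wg)

theorem refl_zero (a b : ℤ) : Cfsg.Agent.ChevalleyStructure.CoxeterGeom.refl (A 2) 0 ![a, b] = ![2 * b - a, b] := by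
  rw [refl_apply]
  funext k
  fin_cases k
  · simp [pairing, A_apply]
    ring
  · simp

theorem refl_one (a b : ℤ) : Cfsg.Agent.ChevalleyStructure.CoxeterGeom.refl (A 2) 1 ![a, b] = ![a, a - b] := by
  rw [refl_apply]
  funext k
  fin_cases k
  · simp
  · simp [pairing, A_apply]
    ring

theorem sr_one : (sr (1 : Fin 2) : Fin 2 → ℤ) = ![0, 1] := by
  funext k
  fin_cases k <;> rfl

/-- representatives of `W / W_0` -/
def vv : Fin 4 → Wg := ![1, cs.simple 1, cs.simple 0 * cs.simple 1, cs.simple 1 * (cs.simple 0 * cs.simple 1)]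

/-- representatives of the edges of type `1` -/
def ww : Fin 4 → Wg := ![1, cs.simple 0, cs.simple 1 * cs.simple 0, cs.simple 0 * (cs.simple 1 * cs.simple 0)]

variable {cs}

theorem vv_not {J : Set (Fin 2)} (hJ : 1 ∉ J) (a a' : Fin 4) (haa : a ≠ a') : (vv cs a)⁻¹ * vv cs a' ∉ WJ cs J := by
  intro hw
  have h1 := coord_of_mem_WJ (h := isCartan 2) hw ![1, 3] hJ
  fin_cases a <;> fin_cases a' <;>
    first
    | exact haa rfl
    | simp [vv, rep_mul_apply, refl_zero, refl_one, mul_inv_rev] at h1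

theorem ww_not {J : Set (Fin 2)} (hJ : 1 ∉ J) (a a' : Fin 4) (haa : a ≠ a') :
    ¬ SameEdge cs (isCartan 2) J (ww cs a) 1 (ww cs a') 1 := by
  rintro (⟨h1, h2⟩ | ⟨h1, h2⟩)
  · have h3 := coord_of_mem_WJ (h := isCartan 2) h2 ![1, 0] hJ
    rw [sr_one] at h1
    have h4 := congrFun h1 0
    fin_cases a <;> fin_cases a' <;>
      first
      | exact haa rfl
      | simp [ww, rep_mul_apply, refl_zero, refl_one, mul_inv_rev] at h3 h4
  · rw [sr_one] at h1
    have h4 := congrFun h1 1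
    fin_cases a <;> fin_cases a' <;>
      first
      | exact haa rfl
      | simp [ww, rep_mul_apply, refl_zero, refl_one, mul_inv_rev] at h4

variable {Y : Type*} [Group Y] {p : ℕ} {T : Subgroup Y} {n : Fin 2 → Y}
  {X : (Fin 2 → ℤ) → Subgroup Y} {k V : Type*} [Field k] [AddCommGroup V] [Module k V]
  (R : RGD cs (isCartan 2) p T n X) [Finite Y] [Finite Wg] [Fact p.Prime] [CharP k p]
  {ρ : Y →* Module.End k V} [FiniteDimensional k V] [Nontrivial V]
  (hirr : ∀ L : Submodule k V, Ivt ρ (GG cs (isCartan 2) T X) L → L = ⊥ ∨ L = ⊤)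
include R hirr

/-- **The vertices and the edges of type `1`.** -/
theorem dim_b2 (h1 : 1 ∉ Jx cs (isCartan 2) X ρ) : 4 * Module.finrank k (D cs (isCartan 2) X ρ) +
    4 * Module.finrank k (Io cs (isCartan 2) T X ρ 1) ≤ Module.finrank k V := by
  have h2 := dim_ge R hirr (vv cs) (vv_not h1) (ww cs) (fun _ => 1) (ww_not h1)
  simpa using h2

/-- the last node is not in `J` -/
theorem le_b2 (h1 : 1 ∉ Jx cs (isCartan 2) X ρ) (hD : Module.finrank k (D cs (isCartan 2) X ρ) = 1) :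
    4 * Module.finrank k (Le cs (isCartan 2) T X ρ {1}) ≤ Module.finrank k V + 4 := by
  have h2 := dim_b2 R hirr h1
  have h3 := finrank_Io R hirr (1 : Fin 2)
  omega

end Cfsg.Agent.H69.Ppd
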