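import Cfsg.Agent.H69.Ppd.KerFive
import Cfsg.Agent.H525.Ppd.UBound

/-!
# The kernel `h(x, y) ^ c`, `c = c' (1 + Q + ... + Q ^ (j - 1))`: the rank is at least `10 j` (helper69, TEAM PPD)
-/

set_option autoImplicit false
set_option linter.unusedSectionVars false

namespace Cfsg.Agent.H69.Ppd

open Cfsg Cfsg.Agent.LieClassical.HermBasic Matrix Cfsg.Agent.H929.U3.Dig Cfsg.Agent.H525.Ppd

section

variable {p : ℕ} [hp : Fact p.Prime]

theorem bx_rep {s : ℕ} (hs : 0 < s) (j k : ℕ) (hk : k < j) : bx p (rep (p ^ s) 1 j) ((p ^ s) ^ k) := by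
  have h1 : 1 < p ^ s := Nat.one_lt_pow hs.ne' hp.out.one_lt
  induction j generalizing k with
  | zero => omega
  | succ j ih =>
    rw [rep_succ]
    rcases k with _ | k
    · have := bx_add (p := p) (f := s) (a' := 1) (a'' := rep (p ^ s) 1 j) (x := 1) (y := 0) h1 h1 (bx_self 1)
        (bx_zero _)
      simpa using this
    · have := bx_add (p := p) (f := s) (a' := 1) (a'' := rep (p ^ s) 1 j) (x := 0) (y := (p ^ s) ^ k) h1
        (by omega) (bx_zero 1) (ih k (by omega))
      rw [pow_succ']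
      simpa using this

theorem pow_lt_rep {s j k : ℕ} (hs : 0 < s) (hj : 2 ≤ j) (hk : k < j) : (p ^ s) ^ k < rep (p ^ s) 1 j := by
  have h1 : 1 < p ^ s := Nat.one_lt_pow hs.ne' hp.out.one_lt
  unfold rep
  rw [one_mul]
  obtain ⟨l, hl, hlk⟩ : ∃ l, l < j ∧ l ≠ k := by
    by_cases h0 : k = 0
    · exact ⟨1, by omega, by omega⟩
    · exact ⟨0, by omega, by omega⟩
  have h2 : (p ^ s) ^ l + (p ^ s) ^ k ≤ ∑ i ∈ Finset.range j, (p ^ s) ^ i := by
    rw [← Finset.sum_pair hlk]
    refine Finset.sum_le_sum_of_subset ?_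
    intro x hx
    rw [Finset.mem_insert, Finset.mem_singleton] at hx
    rw [Finset.mem_range]
    rcases hx with rfl | rfl
    · exact hl
    · exact hk
  have h3 : 0 < (p ^ s) ^ l := pow_pos (by omega) _
  omega

end

theorem bound_two {N : ℕ} (hN : 4 ≤ N) : 10 * N + 4 ≤ 4 * 2 ^ N := by
  induction N, hN using Nat.le_induction with
  | base => norm_num
  | succ n hn ih =>
    rw [pow_succ]
    omega

section

variable {K k : Type*} [Field K] [Fintype K] [Field k] {q N : ℕ} {b : Fin 2 × Bool → Fin N → K} {d : Fin N → K}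
  {p : ℕ} [hp : Fact p.Prime] [CharP k p]

/-- twisting by the Frobenius map -/
theorem Rw_frob (σ : K →+* k) (a c : ℕ) :
    Rw q N σ (p ^ a * c) = Rw q N ((iterateFrobenius k p a).comp σ) c := by
  unfold Rw
  congr 2
  funext w v
  unfold kr
  rw [pow_mul, RingHom.comp_apply, iterateFrobenius_def]

/-- **The rank of the kernel.** -/
theorem ker_five (hK : Fintype.card K = q ^ 2) (hb : IsFr q b d) (σ : K →+* k) {s j c' : ℕ} (hs : 0 < s)
    (hQ : (p ^ s) ^ j = Fintype.card K) (hc1 : 1 ≤ c') (hc' : c' < p ^ s) (hj : 2 ≤ j) :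
    10 * j ≤ Module.finrank k (Rw q N σ (rep (p ^ s) c' j)) := by
  classical
  have hp2 := hp.out.two_le
  have h1Q : 1 < p ^ s := Nat.one_lt_pow hs.ne' hp.out.one_lt
  have hd2 : 2 ≤ dc p s c' := two_le_dc hc1 hc'
  -- the general bound
  have key : ∀ (σ : K →+* k) (c : ℕ), 1 ≤ c → c < p ^ s → ∀ M₁ ⊆ (Finset.Ioo 0 (rep (p ^ s) c j)).filter
      (fun m => bx p (rep (p ^ s) c j) m), (∀ m ∈ M₁, ∃ e, m = p ^ e) →
      4 * dc p s c ^ j + 4 * M₁.card ≤ Module.finrank k (Rw q N σ (rep (p ^ s) c j)) + 4 := by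
    intro σ c hc1 hc M₁ hM₁ hpw
    have hr1 := rep_pos (Q := p ^ s) hc1 (by omega : 1 ≤ j)
    have hr2 := rep_lt (N := j) hc
    rw [hQ] at hr2
    have h1 := rank_ge (σ := σ) (p := p) hK (by omega) hb hr2
      (M := (Finset.Ioo 0 (rep (p ^ s) c j)).filter (fun m => bx p (rep (p ^ s) c j) m)) (M₁ := M₁) (by
        intro m hm
        rw [Finset.mem_filter, Finset.mem_Ioo] at hm
        refine ⟨hm.1.1, hm.1.2, ?_⟩
        rw [Ne, CharP.cast_eq_zero_iff k p]
        exact hm.2) hM₁ hpw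
    have h2 : dc p s c ^ j = ((Finset.Ioo 0 (rep (p ^ s) c j)).filter
        (fun m => bx p (rep (p ^ s) c j) m)).card + 2 := by
      rw [← dc_rep hc j]
      unfold dc
      rw [← Finset.card_pair (show (0 : ℕ) ≠ rep (p ^ s) c j by omega), ← Finset.card_union_of_disjoint]
      · congr 1
        ext m
        simp only [Finset.mem_filter, Finset.mem_range, Finset.mem_union, Finset.mem_Ioo, Finset.mem_insert,
          Finset.mem_singleton]
        rw [mul_comm j s, pow_mul, hQ]
        constructor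
        · rintro ⟨h3, h4⟩
          have h5 := bx_le h4
          by_cases h6 : m = 0
          · exact Or.inr (Or.inl h6)
          by_cases h7 : m = rep (p ^ s) c j
          · exact Or.inr (Or.inr h7)
          · exact Or.inl ⟨⟨by omega, by omega⟩, h4⟩
        · rintro (⟨h3, h4⟩ | h3 | h3)
          · exact ⟨by omega, h4⟩
          · rw [h3]
            exact ⟨by omega, bx_zero _⟩
          · rw [h3]
            exact ⟨hr2, bx_self _⟩
      · rw [Finset.disjoint_left]
        intro m hm hm'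
        rw [Finset.mem_filter, Finset.mem_Ioo] at hm
        rw [Finset.mem_insert, Finset.mem_singleton] at hm'
        omega
    omega
  have h2j : 2 ^ j ≤ dc p s c' ^ j := Nat.pow_le_pow_left hd2 j
  by_cases hj4 : 4 ≤ j
  · have h1 := key σ c' hc1 hc' ∅ (Finset.empty_subset _) (by simp)
    rw [Finset.card_empty] at h1
    have h2 := bound_two hj4
    omega
  by_cases hd3 : 3 ≤ dc p s c'
  · have h1 := key σ c' hc1 hc' ∅ (Finset.empty_subset _) (by simp)
    rw [Finset.card_empty] at h1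
    have h3j : 3 ^ j ≤ dc p s c' ^ j := Nat.pow_le_pow_left hd3 j
    have h4 : j = 2 ∨ j = 3 := by omega
    rcases h4 with rfl | rfl <;> omega
  -- `c'` is a power of `p`
  obtain ⟨a, c₁, hck, hc₁⟩ := classify hc1 hc' (by omega)
  obtain rfl : c₁ = 1 := by
    rcases hc₁ with h5 | ⟨i, -, -, h5⟩ <;> omega
  rw [mul_one] at hck
  have e1 : rep (p ^ s) c' j = p ^ a * rep (p ^ s) 1 j := by
    unfold rep
    rw [hck, one_mul]
  rw [e1, Rw_frob]
  have hdc : dc p s 1 = 2 := dc_lt hp.out.one_lt hs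
  have h1 := key ((iterateFrobenius k p a).comp σ) 1 le_rfl h1Q ((Finset.range j).image fun i => (p ^ s) ^ i) (by
    intro m hm
    rw [Finset.mem_image] at hm
    obtain ⟨i, hi, rfl⟩ := hm
    rw [Finset.mem_range] at hi
    rw [Finset.mem_filter, Finset.mem_Ioo]
    exact ⟨⟨pow_pos (by omega) _, pow_lt_rep hs hj hi⟩, bx_rep hs j i hi⟩) (by
    intro m hm
    rw [Finset.mem_image] at hm
    obtain ⟨i, hi, rfl⟩ := hm
    exact ⟨s * i, (pow_mul _ _ _).symm⟩)
  rw [Finset.card_image_of_injective _ (Nat.pow_right_injective h1Q), Finset.card_range, hdc] at h1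
  have h4 : j = 2 ∨ j = 3 := by omega
  rcases h4 with rfl | rfl <;> omega

end

end Cfsg.Agent.H69.Ppd
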