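import Cfsg.Agent.H905.MdC
import Cfsg.Prelude.Def_GeometricClasses
import Cfsg.Agent.KFacts.MulOdd.Inst

/-!
# The rank one subgroup of a node acts absolutely irreducibly on `k[L_i] V^U` (helper69, TEAM PPD)

`R : RGD cs h p T n X`, `ρ` simple over `k`, `V^U = ⟨w⟩`, `Lv X i = ⟨X_i, X_{-i}⟩`, `Le {i} = k[L_i] V^U`.

* `mem_D_of` : a vector of `Le {i}` fixed by `X_i` is in `V^U`;
* `lv_simple` : `Le {i}` is a simple `Lv X i`-module;
* **`exists_levi`** : the matrices of `Lv X i` on `Le {i}` act absolutely irreducibly.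
-/

set_option autoImplicit false
set_option linter.unusedSectionVars false

namespace Cfsg.Agent.H69.Ppd

open CoxeterSystem Cfsg.Agent.ChevalleyStructure.CoxeterGeom Cfsg.Agent.Tits.Roots Cfsg.Agent.Tits.Core
  Cfsg.Agent.Tits.Exchange Cfsg.Agent.Nodes.Reps Cfsg.Agent.Nodes.BNOf Cfsg.Agent.Nodes.StabComb
  Cfsg.Agent.Nodes.Bruhat Cfsg.Agent.Nodes.OppDec Cfsg.Agent.Nodes.LeviDec Cfsg.Agent.KFacts.RgdOpp
  Cfsg.Agent.Omega.CR Cfsg.Agent.Omega.FOne.Lift.Sd Cfsg.Agent.H905.Md Cfsg.Agent.KFacts.MulOdd.Inst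
open Cfsg Cfsg.Geo
open scoped MatrixGroups Matrix

variable {I W Y : Type*} [Fintype I] [DecidableEq I] [Group W] [Group Y] {M : CoxeterMatrix I}
  {cs : CoxeterSystem M W} {A : I → I → ℤ} {h : IsCartan M A} {p : ℕ} {T : Subgroup Y} {n : I → Y}
  {X : (I → ℤ) → Subgroup Y} {k V : Type*} [Field k] [AddCommGroup V] [Module k V]
  (R : RGD cs h p T n X) [Finite Y] [Finite W] [Fact p.Prime] [CharP k p]
  {ρ : Y →* Module.End k V} [FiniteDimensional k V] [Nontrivial V]
  (hirr : ∀ L : Submodule k V, Ivt ρ (GG cs h T X) L → L = ⊥ ∨ L = ⊤)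

include R

theorem mem_D_of (i : I) {v : V} (hv : v ∈ Le cs h T X ρ {i}) (hf : ∀ x ∈ X (sr i), ρ x v = v) :
    v ∈ D cs h X ρ := by
  intro g hg
  obtain ⟨u, hu, x, hx, rfl⟩ := (mem_U_iff R (J := {i})).1 hg
  have h1 : UJ cs h X {i} ≤ X (sr i) := by
    refine RGD.Sup_le fun y hy => ?_
    rcases mem_RootsJ_single (PosJ_subset _ hy) with rfl | rfl
    · exact le_rfl
    · exfalso
      have h2 := hy.2.1 i
      rw [Pi.neg_apply, sr_self, Pi.zero_apply] at h2
      exact absurd h2 (by norm_num)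
  rw [rho_mul, Le_le_fx R _ hv x hx]
  exact hf u (h1 hu)

include hirr

/-- **`Le {i}` is a simple `Lv X i`-module** -/
theorem lv_simple {w : V} (hD : D cs h X ρ = Submodule.span k {w}) (i : I) {L : Submodule k V}
    (hL : L ≤ Le cs h T X ρ {i}) (hinv : Ivt ρ (Lv X i) L) (hL0 : L ≠ ⊥) : Le cs h T X ρ {i} ≤ L := by
  obtain ⟨v, hv, hv0, hvf⟩ := exists_fixed ρ (R.pgrp i) L (fun a ha v hv => hinv a (le_sup_left (a := X (sr i)) ha) v hv) hL0
  have h1 := mem_D_of R i (hL hv) hvf
  have h2 : D cs h X ρ ≤ L := by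
    rw [hD] at h1 ⊢
    obtain ⟨a, rfl⟩ := Submodule.mem_span_singleton.1 h1
    have ha : a ≠ 0 := by
      rintro rfl
      exact hv0 (zero_smul _ _)
    rw [Submodule.span_singleton_le_iff_mem]
    have := L.smul_mem a⁻¹ hv
    rwa [smul_smul, inv_mul_cancel₀ ha, one_smul] at this
  rw [Le_single R hirr]
  exact Sp_le h2 fun g hg v hv => hinv g (le_sup_right (b := X (-sr i)) hg) v hv

omit hirr in
theorem Lv_Le (i : I) {g : Y} (hg : g ∈ Lv X i) {v : V} (hv : v ∈ Le cs h T X ρ {i}) : ρ g v ∈ Le cs h T X ρ {i} :=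
  Ivt_Le R {i} g ((sup_le (X_le_LJ (sr_mem_Roots i)) (X_le_LJ (RootsJ.neg (sr_mem_Roots i))) :
    Lv X i ≤ LJ cs h T X {i}) hg) v hv

/-- **The matrices of `Lv X i` on `Le {i}` act absolutely irreducibly** -/
theorem exists_levi {w : V} (hw0 : w ≠ 0) (hD : D cs h X ρ = Submodule.span k {w}) (i : I) :
    ∃ φ : Lv X i →* GL (Fin (Module.finrank k (Le cs h T X ρ {i}))) k,
      ActsAbsolutelyIrreducibly (matrixSet φ.range) := by
  classical
  set U := Le cs h T X ρ {i} with hU
  let b : Module.Basis (Fin (Module.finrank k U)) k U := Module.finBasis k U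
  let rs : Lv X i → Module.End k U := fun g => (ρ g).restrict fun v hv => Lv_Le R i g.2 hv
  have hrs : ∀ (g : Lv X i) (u : U), ((rs g u : U) : V) = ρ g u := fun g u => rfl
  let m : Lv X i →* Matrix (Fin (Module.finrank k U)) (Fin (Module.finrank k U)) k :=
    { toFun := fun g => LinearMap.toMatrix b b (rs g)
      map_one' := by
        have h1 : rs 1 = LinearMap.id := by
          refine LinearMap.ext fun u => Subtype.ext ?_
          rw [hrs]
          exact rho_one ρ _
        rw [h1, LinearMap.toMatrix_id]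
      map_mul' := by
        intro g g'
        have h1 : rs (g * g') = rs g ∘ₗ rs g' := by
          refine LinearMap.ext fun u => Subtype.ext ?_
          rw [hrs, LinearMap.comp_apply, hrs, hrs]
          exact rho_mul ρ _ _ _
        rw [h1, LinearMap.toMatrix_comp b b b] }
  let φ : Lv X i →* GL (Fin (Module.finrank k U)) k := m.toHomUnits
  have hφ : ∀ g, ((φ g : GL _ k) : Matrix _ _ k) = LinearMap.toMatrix b b (rs g) := fun g => rfl
  have hmv : ∀ (g : Lv X i) (u : U), (LinearMap.toMatrix b b (rs g)) *ᵥ (b.equivFun u) = b.equivFun (rs g u) :=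
    fun g u => LinearMap.toMatrix_mulVec_repr b b (rs g) u
  -- invariant subspaces
  have key : ∀ L : Submodule k U, (∀ g : Lv X i, ∀ u ∈ L, rs g u ∈ L) → L ≠ ⊥ → L = ⊤ := by
    intro L hL hL0
    have h1 : U ≤ L.map U.subtype := by
      refine lv_simple R hirr hD i ?_ ?_ ?_
      · rintro _ ⟨u, -, rfl⟩
        exact u.2
      · rintro g hg _ ⟨u, hu, rfl⟩
        exact ⟨rs ⟨g, hg⟩ u, hL ⟨g, hg⟩ u hu, rfl⟩
      · intro h2
        apply hL0
        rw [eq_bot_iff]
        intro u hu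
        have h3 : (u : V) ∈ L.map U.subtype := ⟨u, hu, rfl⟩
        rw [h2, Submodule.mem_bot] at h3
        exact Submodule.mem_bot _ |>.2 (Subtype.ext h3)
    rw [eq_top_iff]
    intro u _
    obtain ⟨u', hu', e⟩ := h1 u.2
    have e' : u' = u := Subtype.ext e
    exact e' ▸ hu'
  refine ⟨φ, ?_, ?_⟩
  · intro L hL
    by_cases hL0 : L = ⊥
    · exact Or.inl hL0
    right
    have h1 := key (L.comap (b.equivFun : U →ₗ[k] _)) (by
      intro g u hu
      have h2 := hL _ ⟨φ g, ⟨g, rfl⟩, rfl⟩ ⟨b.equivFun u, hu, rfl⟩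
      rw [Matrix.toLin'_apply] at h2
      change b.equivFun (rs g u) ∈ L
      rw [← hmv]
      exact h2) (by
      intro h2
      apply hL0
      rw [eq_bot_iff]
      intro v hv
      have h3 : b.equivFun.symm v ∈ L.comap (b.equivFun : U →ₗ[k] _) := by
        change b.equivFun (b.equivFun.symm v) ∈ L
        rwa [LinearEquiv.apply_symm_apply]
      rw [h2, Submodule.mem_bot] at h3
      rw [Submodule.mem_bot]
      exact b.equivFun.symm.map_eq_zero_iff.1 h3)
    rw [eq_top_iff]
    intro v _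
    have h3 : b.equivFun.symm v ∈ L.comap (b.equivFun : U →ₗ[k] _) := by rw [h1]; trivial
    have h4 : b.equivFun (b.equivFun.symm v) ∈ L := h3
    rwa [LinearEquiv.apply_symm_apply] at h4
  · intro N hN
    -- the endomorphism
    let f : U →ₗ[k] U := Matrix.toLin b b N
    have hf : ∀ (g : Lv X i) (u : U), f (rs g u) = rs g (f u) := by
      intro g u
      have h1 := hN _ ⟨φ g, ⟨g, rfl⟩, rfl⟩
      have h2 := congrArg (Matrix.toLin b b) h1
      rw [Matrix.toLin_mul b b b, Matrix.toLin_mul b b b] at h2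
      have h3 : Matrix.toLin b b ((φ g : GL _ k) : Matrix _ _ k) = rs g := by
        rw [hφ, Matrix.toLin_toMatrix]
      have h4 := LinearMap.congr_fun h2 u
      rw [LinearMap.comp_apply, LinearMap.comp_apply] at h4
      simp only [h3] at h4
      exact h4
    have hwU : w ∈ U := by
      have h1 : D cs h X ρ ≤ U := D_le_Le R {i}
      apply h1
      rw [hD]
      exact Submodule.mem_span_singleton_self w
    have hwD : w ∈ D cs h X ρ := by rw [hD]; exact Submodule.mem_span_singleton_self w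
    have h1 : ((f ⟨w, hwU⟩ : U) : V) ∈ D cs h X ρ := by
      refine mem_D_of R i (f ⟨w, hwU⟩).2 ?_
      intro x hx
      have h2 := hf ⟨x, le_sup_left (a := X (sr i)) hx⟩ ⟨w, hwU⟩
      have h3 : rs ⟨x, le_sup_left (a := X (sr i)) hx⟩ ⟨w, hwU⟩ = ⟨w, hwU⟩ :=
        Subtype.ext (X_fix R ρ hwD i hx)
      rw [h3] at h2
      exact (congrArg Subtype.val h2).symm
    rw [hD] at h1
    obtain ⟨c, hc⟩ := Submodule.mem_span_singleton.1 h1
    refine ⟨c, ?_⟩
    have h2 := key (LinearMap.ker (f - c • LinearMap.id)) (by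
      intro g u hu
      rw [LinearMap.mem_ker, LinearMap.sub_apply, LinearMap.smul_apply, LinearMap.id_apply] at hu ⊢
      rw [hf, sub_eq_zero.1 hu, map_smul, sub_self]) (by
      intro h3
      have h4 : (⟨w, hwU⟩ : U) ∈ LinearMap.ker (f - c • LinearMap.id) := by
        rw [LinearMap.mem_ker, LinearMap.sub_apply, LinearMap.smul_apply, LinearMap.id_apply, sub_eq_zero]
        exact Subtype.ext hc.symm
      rw [h3, Submodule.mem_bot] at h4
      exact hw0 (congrArg Subtype.val h4))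
    have h3 : f = c • LinearMap.id := by
      refine LinearMap.ext fun u => ?_
      have h4 : u ∈ LinearMap.ker (f - c • LinearMap.id) := by rw [h2]; trivial
      rw [LinearMap.mem_ker, LinearMap.sub_apply] at h4
      exact sub_eq_zero.1 h4
    have h4 : LinearMap.toMatrix b b f = N := LinearMap.toMatrix_toLin b b N
    rw [← h4, h3, map_smul, LinearMap.toMatrix_id]

end Cfsg.Agent.H69.Ppd
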