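import Cfsg.Agent.H69.Ppd.FieldD
import Cfsg.Agent.H918.UProper
import Cfsg.Agent.H905.MdL
import Cfsg.Agent.H353.Ker.Bridge
import Cfsg.Agent.H925.NatFrame

/-!
# The natural module of `SU(N, q)` over the root group datum of a Witt frame (helper69, TEAM PPD)

`W : WFrame (PU hK N) m`, `o : Fin m` the first node, `2 ≤ m`; `Y = SU N K q`, `X = WittModel.X (modelSU hK hN W)`.

* `nat K q N : SU N K q →* End K (K^N)`; `nat_irr` : it is simple;
* `e_mem_D`, `D_nat` : `V^U = ⟨e_o⟩`; **`Jx_nat`** : `J = {i | i ≠ o}`;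
* `fdual`, `fdual_mem` : `h(·, f_o)` is fixed by `U⁻`;
* `exists_act` : transitivity on the nonzero isotropic vectors;
* `hom_psi`: `t e_o = ψ(t) e_o`.
-/

set_option autoImplicit false
set_option linter.unusedSectionVars false

namespace Cfsg.Agent.H69.Ppd

open CoxeterSystem Cfsg.Agent.ChevalleyStructure.CoxeterGeom Cfsg.Agent.Tits.Roots Cfsg.Agent.Nodes.TypeC
open Cfsg.Agent.Nodes.Comb Cfsg.Agent.Nodes.Reps Cfsg.Agent.Nodes.WittRoot Cfsg.Agent.Nodes.BNOf
open Cfsg.Agent.Nodes.WittRGD Cfsg.Agent.Nodes.RGDLib Cfsg.Agent.Nodes.WittAll Cfsg.Agent.Nodes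
open Cfsg.Agent.TitsThree Cfsg.Agent.TitsThree.Siegel Cfsg.Agent.TitsThree.WittFrame
  Cfsg.Agent.TitsThree.WittWeyl Cfsg.Agent.TitsThree.FrameCN
open Cfsg.Agent.LieClassical.HermBasic Cfsg.Agent.LieClassical.HermSiegel Cfsg.Agent.LieClassical.HermGen
open Cfsg.Agent.TitsThree.KSideU Cfsg.Agent.TitsThree.KSideUDesc Cfsg.Agent.Nodes.WittU
  Cfsg.Agent.TitsThree.WBridge Cfsg.Agent.TitsThree.SiegelGen Cfsg.Agent.H61.SUCross
open Cfsg.Agent.Nodes.Bruhat Cfsg.Agent.Nodes.OppDec Cfsg.Agent.Nodes.LeviDec Cfsg.Agent.KFacts.RgdOpp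
  Cfsg.Agent.Omega.CR Cfsg.Agent.Omega.FOne.Lift.Sd Cfsg.Agent.H911 Cfsg.Agent.H905.Md Cfsg.Agent.H156.Ppd
open Cfsg Cfsg.Geo Cfsg.Agent.H67
open scoped MatrixGroups Matrix

section nat

variable (K : Type*) [Field K] (q N : ℕ)

/-- the natural module -/
noncomputable def nat : SU N K q →* Module.End K (Fin N → K) where
  toFun g := (toLin K q N g : (Fin N → K) →ₗ[K] (Fin N → K))
  map_one' := by rw [map_one]; rfl
  map_mul' a b := by rw [map_mul]; rfl

variable {K q N}

theorem nat_apply (g : SU N K q) (v : Fin N → K) : nat K q N g v = act g v := rfl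

theorem nat_toLin (g : SU N K q) (v : Fin N → K) : nat K q N g v = toLin K q N g v := rfl

end nat

/-! ### the mirror of `rg_fix` -/

section mirror

open Cfsg.Agent.H925.Nat

variable {F : Type*} [Field F] {V : Type*} [AddCommGroup V] [Module F V] {H : HForm F V} {n : ℕ}
  {Fr : Frame H (Fin n)}

theorem ng_eq_neg (a : Fin n × Bool) : ng a = neg a := rfl

theorem rg_fix' (hn : 1 < n) {o : Fin n} (ho : (o : ℕ) = 0) {W : Type*} [Group W]
    {cs : CoxeterSystem (CoxeterMatrix.B n) W} {x : Fin n → ℤ} (hx : IsRoot cs (isCartan n) x) (hxo : x o ≤ 0)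
    {g : V ≃ₗ[F] V} (hg : g ∈ WittRoot.rg Fr x) : g (Fr.b (o, false)) = Fr.b (o, false) := by
  obtain ⟨a, b, hab, e⟩ := exists_of_isRoot cs hx
  rw [rg_eq Fr hab e] at hg
  rw [← ee_zero hn ho x, e] at hxo
  have h0 : 0 ≤ (wt (ng a) + wt (ng b)) o := by
    rw [wt_ng, wt_ng]
    simp only [Pi.add_apply, Pi.neg_apply] at hxo ⊢
    omega
  obtain ⟨h1, h2⟩ := neg_ne_of_wt hab.ng h0
  refine PG_fix hab ?_ ?_ hg
  · rintro h3
    apply h1
    have h4 := congrArg neg h3
    rw [WittFrame.neg_neg] at h4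
    rw [ng_eq_neg, WittFrame.neg_neg]
    exact h4
  · rintro h3
    apply h2
    have h4 := congrArg neg h3
    rw [WittFrame.neg_neg] at h4
    rw [ng_eq_neg, WittFrame.neg_neg]
    exact h4

end mirror

open Cfsg.Agent.H925.Nat

variable {K : Type*} [Field K] [Fintype K] {q N m : ℕ} {hK : Fintype.card K = q ^ 2} (hN : 3 ≤ N)
  (W : WFrame (PU hK N) m)

/-- transitivity on isotropic vectors -/
theorem exists_act (hK : Fintype.card K = q ^ 2) (hN : 3 ≤ N) {u v : Fin N → K} (hu : hermForm N K q u u = 0)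
    (hv : hermForm N K q v v = 0) (hu0 : u ≠ 0) (hv0 : v ≠ 0) : ∃ g : SU N K q, act g u = v := by
  obtain ⟨g, -, hg⟩ := exists_map_iso hK (k := N) hN le_rfl (mem_coordSub_top u) (mem_coordSub_top v) hu0 hv0 hu hv
  exact ⟨g, hg⟩

theorem nat_irr' (hK : Fintype.card K = q ^ 2) (hN : 3 ≤ N) (L : Submodule K (Fin N → K))
    (hL : ∀ g : SU N K q, ∀ v ∈ L, act g v ∈ L) : L = ⊥ ∨ L = ⊤ := by
  refine H918.SUg_irreducible hK hN L ?_
  rintro _ ⟨a, ha, rfl⟩ _ ⟨v, hv, rfl⟩
  obtain ⟨g, rfl⟩ := H918.exists_suHom ha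
  rw [Matrix.toLin'_apply]
  exact hL g v hv

section

variable {Wg : Type*} [Group Wg] {cs : CoxeterSystem (CoxeterMatrix.B m) Wg}

theorem nat_irr (L : Submodule K (Fin N → K))
    (hL : Ivt (nat K q N) (GG cs (isCartan m) (WittModel.T (modelSU hK hN W)) (WittModel.X (modelSU hK hN W))) L)
    (hm : 0 < m) : L = ⊥ ∨ L = ⊤ := by
  refine nat_irr' hK hN L fun g v hv => hL g ?_ v hv
  rw [gg_top (WittModel.G1_eq_top _ hm _)]
  trivial

variable {o : Fin m}

theorem X_fix_e (hm : 1 < m) (ho : (o : ℕ) = 0) {x : Fin m → ℤ} (hx : IsRoot cs (isCartan m) x) (hxo : 0 ≤ x o)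
    {g : SU N K q} (hg : g ∈ WittModel.X (modelSU hK hN W) x) : act g (W.e o) = W.e o := by
  rw [X_eq] at hg
  exact rg_fix (Fr := toFrame W) hm ho hx hxo hg

theorem X_fix_f (hm : 1 < m) (ho : (o : ℕ) = 0) {x : Fin m → ℤ} (hx : IsRoot cs (isCartan m) x) (hxo : x o ≤ 0)
    {g : SU N K q} (hg : g ∈ WittModel.X (modelSU hK hN W) x) : act g (W.f o) = W.f o := by
  rw [X_eq] at hg
  exact rg_fix' (Fr := toFrame W) hm ho hx hxo hg

/-- the stabiliser of a vector -/
def stv (v : Fin N → K) : Subgroup (SU N K q) where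
  carrier := {g | act g v = v}
  one_mem' := act_one v
  mul_mem' := by
    intro a b (ha : act a v = v) (hb : act b v = v)
    change act (a * b) v = v
    rw [act_mul, hb, ha]
  inv_mem' := by
    intro a (ha : act a v = v)
    change act a⁻¹ v = v
    conv_lhs => rw [← ha]
    exact act_inv_act a v

theorem mem_stv {v : Fin N → K} {g : SU N K q} : g ∈ stv v ↔ act g v = v := Iff.rfl

theorem e_mem_D (hm : 1 < m) (ho : (o : ℕ) = 0) :
    W.e o ∈ D cs (isCartan m) (WittModel.X (modelSU hK hN W)) (nat K q N) := by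
  have h1 : RGD.Sup (WittModel.X (modelSU hK hN W)) (RGD.Pos cs (isCartan m)) ≤ stv (W.e o) :=
    RGD.Sup_le fun x hx u hu => X_fix_e hN W hm ho hx.1 (hx.2 o) hu
  exact fun g hg => h1 hg

/-- `h(·, f_o)` -/
noncomputable def fdual (w : Fin N → K) : Module.Dual K (Fin N → K) where
  toFun v := hermForm N K q v w
  map_add' a b := herm_add_left a b w
  map_smul' c a := herm_smul_left c a w

theorem fdual_apply (w v : Fin N → K) : fdual (q := q) w v = hermForm N K q v w := rfl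

theorem dual_fdual (g : SU N K q) (w : Fin N → K) :
    dualRep (nat K q N) g (fdual (q := q) w) = fdual (q := q) (act g w) := by
  refine LinearMap.ext fun v => ?_
  rw [dualRep_apply, fdual_apply, fdual_apply, nat_apply]
  have := herm_act g (act g⁻¹ v) w
  rw [act_act_inv] at this
  exact this.symm

theorem fdual_mem (hm : 1 < m) (ho : (o : ℕ) = 0) :
    fdual (q := q) (W.f o) ∈ fx (dualRep (nat K q N)) (UN cs (isCartan m) (WittModel.X (modelSU hK hN W))) := by
  have h1 : UN cs (isCartan m) (WittModel.X (modelSU hK hN W)) ≤ stv (W.f o) :=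
    RGD.Sup_le fun x hx u hu => X_fix_f hN W hm ho hx.1 (hx.2 o) hu
  intro g hg
  rw [dual_fdual, mem_stv.1 (h1 hg)]

theorem e_ne_zero (i : Fin m) : W.e i ≠ 0 := b_ne_zero (Fr := toFrame W) (i, true)

theorem f_ne_zero (i : Fin m) : W.f i ≠ 0 := b_ne_zero (Fr := toFrame W) (i, false)

theorem herm_ef (i : Fin m) : hermForm N K q (W.e i) (W.f i) = 1 := by
  have := W.ef i i
  rwa [if_pos rfl] at this

theorem herm_ee (i : Fin m) : hermForm N K q (W.e i) (W.e i) = 0 := W.ee i i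

theorem herm_ff (i : Fin m) : hermForm N K q (W.f i) (W.f i) = 0 := W.ff i i

theorem fdual_ne (i : Fin m) : fdual (q := q) (W.f i) ≠ 0 := by
  intro h0
  have h1 := congrArg (fun φ : Module.Dual K (Fin N → K) => φ (W.e i)) h0
  simp only [fdual_apply, herm_ef] at h1
  exact one_ne_zero h1

/-- the eigenvalue of the torus -/
noncomputable def psi (i : Fin m) (t : SU N K q) : K := hermForm N K q (act t (W.e i)) (W.f i)

theorem psi_spec (i : Fin m) {t : SU N K q} (ht : t ∈ WittModel.T (modelSU hK hN W)) :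
    nat K q N t (W.e i) = psi W i t • W.e i := apply_e hN W i ⟨t, ht⟩

theorem psi_ne (i : Fin m) {t : SU N K q} (ht : t ∈ WittModel.T (modelSU hK hN W)) : psi W i t ≠ 0 := by
  intro h0
  have h1 := psi_spec hN W i ht
  rw [h0, zero_smul] at h1
  exact e_ne_zero W i ((act_eq_zero t).1 h1)

theorem psi_mul (i : Fin m) {s t : SU N K q} (hs : s ∈ WittModel.T (modelSU hK hN W))
    (ht : t ∈ WittModel.T (modelSU hK hN W)) : psi W i (s * t) = psi W i s * psi W i t := by
  have h1 := psi_spec hN W i (mul_mem hs ht)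
  have h2 := psi_spec hN W i ht
  have h3 := psi_spec hN W i hs
  rw [rho_mul, h2, map_smul, h3, smul_smul] at h1
  have h4 := smul_left_injective K (e_ne_zero W i) h1
  rw [← h4, mul_comm]

/-- an element of `X_{-o}` moving `e_o` -/
theorem exists_move (hm : 1 < m) (ho : (o : ℕ) = 0) :
    ∃ g ∈ WittModel.X (modelSU hK hN W) (-sr o), act g (W.e o) ≠ W.e o := by
  have h1 : (o : ℕ) + 1 < m := by omega
  have hnx : nx o = (⟨(o : ℕ) + 1, h1⟩, false) := by unfold nx; rw [dif_pos h1]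
  have hne : (ng (o, true) : Fin m × Bool).1 ≠ (ng (nx o)).1 := by
    rw [hnx]
    simp [ng, Fin.ext_iff]
  obtain ⟨g, hg⟩ := X_mem hK W (ng (nx o)) (ng (o, true)) (1 : K)
  refine ⟨g, ?_, ?_⟩
  · rw [X_eq, Subgroup.mem_comap, rg_neg_sr, PG_ne _ hne, XG_swap _ hne]
    exact ⟨1, hg⟩
  · intro h2
    have h3 : (toFrame W).X (ng (nx o)) (ng (o, true)) 1 ((toFrame W).b (neg (ng (o, true)))) =
        (toFrame W).b (neg (ng (o, true))) + (1 : K) • (toFrame W).b (ng (nx o)) :=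
      X_apply_neg (toFrame W) (Ne.symm hne) 1
    rw [← hg] at h3
    have h4 : (toFrame W).b (neg (ng (o, true))) = W.e o := rfl
    rw [h4, _root_.one_smul] at h3
    have h5 : toLin K q N g (W.e o) = W.e o := h2
    rw [h5] at h3
    exact b_ne_zero (Fr := toFrame W) (ng (nx o)) (left_eq_add.1 h3)

theorem D_nat (hm : 1 < m) (ho : (o : ℕ) = 0) :
    D cs (isCartan m) (WittModel.X (modelSU hK hN W)) (nat K q N) = Submodule.span K {W.e o} := by
  haveI : Finite Wg := finite_W cs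
  obtain ⟨p, hp⟩ := CharP.exists K
  haveI : Fact p.Prime := ⟨CharP.char_is_prime K p⟩
  obtain ⟨p0, hp0, -⟩ := exists_adm hK W
  have R := rgdC_model (modelSU hK hN W) (AmbT.of_amb (amb_U hK W) p) hp0 cs
  have hne : Nontrivial (Fin N → K) := ⟨_, 0, e_ne_zero W o⟩
  exact fx_eq_span R (nat K q N) (fun L hL => nat_irr hN W L hL (by omega)) (e_mem_D hN W hm ho)
    (e_ne_zero W o) (fun t ht => psi_spec hN W o ht)

/-- **The type of the natural module** -/
theorem Jx_nat (hm : 1 < m) (ho : (o : ℕ) = 0) :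
    Jx cs (isCartan m) (WittModel.X (modelSU hK hN W)) (nat K q N) = {i | i ≠ o} := by
  ext i
  constructor
  · rintro hi rfl
    obtain ⟨g, hg, hne⟩ := exists_move hN W hm ho
    exact hne (hi g hg _ (e_mem_D hN W hm ho))
  · intro hi x hx v hv
    rw [D_nat hN W hm ho] at hv
    obtain ⟨a, rfl⟩ := Submodule.mem_span_singleton.1 hv
    rw [map_smul]
    congr 1
    refine X_fix_e hN W hm ho (isRoot_sr cs _ i).neg ?_ hx
    rw [Pi.neg_apply, sr_ne (Ne.symm hi), neg_zero]

end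

end Cfsg.Agent.H69.Ppd
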