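import Cfsg.Agent.H905.MdG
import Cfsg.Agent.H156.Ppd.Cover

/-!
# Fixed vectors of `U` over the field of definition (helper69, TEAM PPD)

`R : RGD cs h p T n X` in `Y`, `T` commutative, `GG = ⊤`, `φ : Y → GL(ι, F)` with absolutely irreducible image `P`.

* `lrep_irr` : `V = F^ι` is simple;
* `exists_w` : `V^U = ⟨w⟩` over `F` and `V^U = ⟨w⟩` over the algebraic closure, `t w = χ(t) w` with `χ(t) ∈ F`;
* `Jx_eq` : the same type `J`.
-/

set_option autoImplicit false
set_option linter.unusedSectionVars false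

namespace Cfsg.Agent.H69.Ppd

open CoxeterSystem Cfsg.Agent.ChevalleyStructure.CoxeterGeom Cfsg.Agent.Tits.Roots Cfsg.Agent.Tits.Core
  Cfsg.Agent.Tits.Exchange Cfsg.Agent.Nodes.Reps Cfsg.Agent.Nodes.BNOf Cfsg.Agent.Nodes.StabComb
  Cfsg.Agent.Nodes.Bruhat Cfsg.Agent.Nodes.OppDec Cfsg.Agent.Nodes.LeviDec Cfsg.Agent.KFacts.RgdOpp
  Cfsg.Agent.Omega.CR Cfsg.Agent.Omega.FOne.Lift.Sd Cfsg.Agent.H911 Cfsg.Agent.H905.Md Cfsg.Agent.H156.Ppd
open Cfsg Cfsg.Geo
open scoped MatrixGroups Matrix

section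

variable {F : Type*} [Field F] {ι : Type}

/-- the vector over the algebraic closure -/
noncomputable def ac (w : ι → F) : ι → AlgebraicClosure F := fun i => algebraMap F (AlgebraicClosure F) (w i)

theorem ac_apply (w : ι → F) (i : ι) : ac w i = algebraMap F (AlgebraicClosure F) (w i) := rfl

theorem ac_inj {v w : ι → F} (h : ac v = ac w) : v = w :=
  funext fun i => (algebraMap F (AlgebraicClosure F)).injective (congrFun h i)

theorem ac_smul (a : F) (v : ι → F) : ac (a • v) = algebraMap F (AlgebraicClosure F) a • ac v :=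
  funext fun _ => map_mul _ _ _

theorem ac_zero : ac (0 : ι → F) = 0 := funext fun _ => map_zero _

variable [Fintype ι] [DecidableEq ι]

theorem lin_ac {Y : Type*} [Group Y] (φ : Y →* GL ι F) (y : Y) (w : ι → F) :
    lin (acRep φ) y (ac w) = ac (lrep φ y w) := by
  rw [lin_apply, acRep_apply, lin_apply, mrep_apply]
  funext i
  exact (RingHom.map_mulVec (algebraMap F (AlgebraicClosure F)) (φ y : Matrix ι ι F) w i).symm

theorem lrep_apply {Y : Type*} [Group Y] (φ : Y →* GL ι F) (y : Y) (w : ι → F) :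
    lrep φ y w = (φ y : Matrix ι ι F) *ᵥ w := by
  rw [lin_apply, mrep_apply]

end

variable {I W Y : Type*} [Fintype I] [DecidableEq I] [Group W] [Group Y] {M : CoxeterMatrix I}
  {cs : CoxeterSystem M W} {A : I → I → ℤ} {h : IsCartan M A} {p : ℕ} {T : Subgroup Y} {n : I → Y}
  {X : (I → ℤ) → Subgroup Y} {F : Type*} [Field F] {ι : Type} [Fintype ι] [DecidableEq ι]
  {P : Subgroup (GL ι F)}

theorem lrep_irr (hG : GG cs h T X = ⊤) {φ : Y →* GL ι F} (hφ : φ.range = P)
    (hP : ActsAbsolutelyIrreducibly (matrixSet P)) (L : Submodule F (ι → F))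
    (hL : Ivt (lrep φ) (GG cs h T X) L) : L = ⊥ ∨ L = ⊤ := by
  refine hP.1 L ?_
  rintro _ ⟨a, ha, rfl⟩ _ ⟨v, hv, rfl⟩
  rw [SetLike.mem_coe, ← hφ] at ha
  obtain ⟨y, rfl⟩ := ha
  have h1 := hL y (by rw [hG]; trivial) v hv
  rw [lrep_apply] at h1
  rw [Matrix.toLin'_apply]
  exact h1

variable (R : RGD cs h p T n X) [Finite Y] [Finite W] [Fact p.Prime] [CharP F p] [Nonempty ι]
  (hG : GG cs h T X = ⊤) (hT : ∀ s ∈ T, ∀ t ∈ T, s * t = t * s) {φ : Y →* GL ι F} (hφ : φ.range = P)
  (hP : ActsAbsolutelyIrreducibly (matrixSet P))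
include R hG hT hφ hP

/-- **The fixed vectors over `F` and over the algebraic closure.** -/
theorem exists_w : ∃ w : ι → F, w ≠ 0 ∧ D cs h X (lrep φ) = Submodule.span F {w} ∧
    D cs h X (lin (acRep φ)) = Submodule.span (AlgebraicClosure F) {ac w} ∧
    ∃ χ : Y → F, ∀ t ∈ T, lrep φ t w = χ t • w := by
  have hchar : CharP (AlgebraicClosure F) p := charP_of_injective_algebraMap (algebraMap F _).injective p
  have hirr := lrep_irr (T := T) (X := X) (h := h) (cs := cs) hG hφ hP
  have hirr' := ac_irr R hG hT hφ hP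
  obtain ⟨c, hc, hc0, χ, hχ⟩ := exists_chi R hirr' hT
  have hspan := fx_eq_span R (lin (acRep φ)) hirr' hc hc0 hχ
  obtain ⟨w, hw, hw0⟩ := (Submodule.ne_bot_iff _).1 (simp_fx R (lrep φ) hirr).ne
  have hin : ∀ w ∈ fx (lrep φ) (RGD.Sup X (RGD.Pos cs h)), ∃ a : AlgebraicClosure F, a • c = ac w := by
    intro w hw
    have h1 : ac w ∈ fx (lin (acRep φ)) (RGD.Sup X (RGD.Pos cs h)) := by
      intro u hu
      rw [lin_ac, hw u hu]
    rw [hspan] at h1
    exact Submodule.mem_span_singleton.1 h1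
  obtain ⟨a, ha⟩ := hin w hw
  obtain ⟨i, hi⟩ : ∃ i, w i ≠ 0 := by
    by_contra hcon
    push Not at hcon
    exact hw0 (funext hcon)
  have hai := congrFun ha i
  have ha0 : a ≠ 0 := by
    rintro rfl
    rw [zero_smul] at hai
    exact hi ((map_eq_zero _).1 hai.symm)
  have hDF : D cs h X (lrep φ) = Submodule.span F {w} := by
    apply le_antisymm
    · intro w' hw'
      obtain ⟨b, hb⟩ := hin w' hw'
      have hbi := congrFun hb i
      rw [Submodule.mem_span_singleton]
      refine ⟨w' i / w i, ?_⟩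
      funext j
      have haj := congrFun ha j
      have hbj := congrFun hb j
      apply (algebraMap F (AlgebraicClosure F)).injective
      change algebraMap F (AlgebraicClosure F) (w' i / w i * w j) = _
      simp only [Pi.smul_apply, smul_eq_mul, ac_apply] at hai hbi haj hbj
      have hci : c i ≠ 0 := by
        intro h0
        rw [h0, mul_zero] at hai
        exact hi ((map_eq_zero _).1 hai.symm)
      rw [map_mul, map_div₀, ← hai, ← hbi, ← haj, ← hbj]
      field_simp
    · rw [Submodule.span_singleton_le_iff_mem]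
      exact hw
  have hDK : D cs h X (lin (acRep φ)) = Submodule.span (AlgebraicClosure F) {ac w} := by
    change fx (lin (acRep φ)) (RGD.Sup X (RGD.Pos cs h)) = _
    rw [hspan, ← ha]
    exact (Submodule.span_singleton_smul_eq (IsUnit.mk0 a ha0) c).symm
  refine ⟨w, hw0, hDF, hDK, ?_⟩
  have h2 : ∀ t ∈ T, ∃ b : F, lrep φ t w = b • w := by
    intro t ht
    have h3 := D_ivt R hirr t ht w (by rw [hDF]; exact Submodule.mem_span_singleton_self w)
    rw [hDF] at h3
    obtain ⟨b, hb⟩ := Submodule.mem_span_singleton.1 h3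
    exact ⟨b, hb.symm⟩
  choose! χ' hχ' using h2
  exact ⟨χ', hχ'⟩

/-- **The type does not depend on the field.** -/
theorem Jx_eq : Jx cs h X (lin (acRep φ)) = Jx cs h X (lrep φ) := by
  obtain ⟨w, hw0, h1, h2, -⟩ := exists_w R hG hT hφ hP
  ext i
  constructor
  · intro hi x hx v hv
    rw [h1] at hv
    obtain ⟨a, rfl⟩ := Submodule.mem_span_singleton.1 hv
    have h3 := hi x hx (ac w) (by rw [h2]; exact Submodule.mem_span_singleton_self _)
    rw [lin_ac] at h3
    rw [map_smul, ac_inj h3]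
  · intro hi x hx v hv
    rw [h2] at hv
    obtain ⟨a, rfl⟩ := Submodule.mem_span_singleton.1 hv
    have h3 := hi x hx w (by rw [h1]; exact Submodule.mem_span_singleton_self _)
    rw [map_smul, lin_ac, h3]

end Cfsg.Agent.H69.Ppd
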