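import Mathlib
import Cfsg.Agent.LieClassical.HermBasic

/-!
# The kernel `h(x, y) ^ c` on the isotropic vectors of a Hermitian space with a frame of rank two (helper69, TEAM PPD)

* `mem_of_poly` : coefficient extraction;
* `IsFr` : frames `b x` (`x : Fin 2 × Bool`), `d`;
* **`rank_ge`** : `M` a set of exponents `0 < m < c` with `C(c, m) ≠ 0` in the field, `M₁ ⊆ M` a set of powers of `p`:
  `4 + 4 |M| + 4 |M₁| ≤ dim ⟨h(·, w) ^ c⟩`.
-/

set_option autoImplicit false
set_option linter.unusedSectionVars false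

namespace Cfsg.Agent.H69.Ppd

open Cfsg Cfsg.Agent.LieClassical.HermBasic Matrix

/-! ### Coefficients -/

section poly

variable {K k V : Type*} [Field K] [Fintype K] [Field k] [AddCommGroup V] [Module k V]

/-- **coefficient extraction** -/
theorem mem_of_poly (σ : K →+* k) (R : Submodule k V) {c : ℕ} (hc : c < Fintype.card K) (u : ℕ → V)
    (h : ∀ s : K, ∑ m ∈ Finset.range (c + 1), σ s ^ m • u m ∈ R) {m : ℕ} (hm : m ≤ c) : u m ∈ R := by
  classical
  by_contra hcon
  obtain ⟨φ, hφ, hR⟩ := Submodule.exists_le_ker_of_notMem hcon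
  let P : Polynomial k := ∑ i ∈ Finset.range (c + 1), Polynomial.C (φ (u i)) * Polynomial.X ^ i
  have hP : P = 0 := by
    refine Polynomial.eq_zero_of_natDegree_lt_card_of_eval_eq_zero (ι := K) P (f := σ) σ.injective ?_ ?_
    · intro s
      have h1 := hR (h s)
      rw [LinearMap.mem_ker, map_sum] at h1
      rw [← h1]
      simp only [P, Polynomial.eval_finset_sum, Polynomial.eval_mul, Polynomial.eval_C, Polynomial.eval_pow,
        Polynomial.eval_X, map_smul, smul_eq_mul]
      exact Finset.sum_congr rfl fun i _ => mul_comm _ _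
    · refine lt_of_le_of_lt (Polynomial.natDegree_sum_le_of_forall_le (n := c) _ _ fun i hi => ?_) hc
      refine (Polynomial.natDegree_C_mul_X_pow_le _ _).trans ?_
      rw [Finset.mem_range] at hi
      omega
  have h2 : P.coeff m = φ (u m) := by
    simp only [P, Polynomial.finset_sum_coeff, Polynomial.coeff_C_mul, Polynomial.coeff_X_pow]
    rw [Finset.sum_eq_single m]
    · rw [if_pos rfl, mul_one]
    · intro b _ hb
      rw [if_neg (Ne.symm hb), mul_zero]
    · intro h3
      rw [Finset.mem_range] at h3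
      omega
  rw [hP, Polynomial.coeff_zero] at h2
  exact hφ h2.symm

end poly

/-! ### Frames -/

section frame

variable {K : Type*} [Field K] [Fintype K] {q N : ℕ}

/-- the opposite index -/
def op (x : Fin 2 × Bool) : Fin 2 × Bool := (x.1, !x.2)

theorem op_op (x : Fin 2 × Bool) : op (op x) = x := by
  obtain ⟨a, b⟩ := x
  simp [op]

/-- A frame. -/
structure IsFr (q : ℕ) (b : Fin 2 × Bool → Fin N → K) (d : Fin N → K) : Prop where
  bb : ∀ x y, hermForm N K q (b x) (b y) = if y = op x then 1 else 0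
  bd : ∀ x, hermForm N K q (b x) d = 0
  db : ∀ x, hermForm N K q d (b x) = 0
  dd : hermForm N K q d d = 1

variable {b : Fin 2 × Bool → Fin N → K} {d : Fin N → K}

/-- the vector with the coordinates `a`, `z` -/
def vc (b : Fin 2 × Bool → Fin N → K) (d : Fin N → K) (a : Fin 2 × Bool → K) (z : K) : Fin N → K :=
  ∑ x, a x • b x + z • d

variable (hK : Fintype.card K = q ^ 2) (hb : IsFr q b d)
include hb

theorem vc_b (a : Fin 2 × Bool → K) (z : K) (x : Fin 2 × Bool) :
    hermForm N K q (vc b d a z) (b (op x)) = a x := by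
  unfold vc
  rw [herm_add_left, herm_sum_left, herm_smul_left, hb.db, mul_zero, add_zero, Finset.sum_eq_single x]
  · rw [herm_smul_left, hb.bb, if_pos rfl, mul_one]
  · intro y _ hy
    rw [herm_smul_left, hb.bb, if_neg, mul_zero]
    intro h
    apply hy
    rw [← op_op x, h, op_op]
  · intro h; exact absurd (Finset.mem_univ _) h

theorem vc_d (a : Fin 2 × Bool → K) (z : K) : hermForm N K q (vc b d a z) d = z := by
  unfold vc
  rw [herm_add_left, herm_sum_left, herm_smul_left, hb.dd, mul_one, Finset.sum_eq_zero, zero_add]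
  intro x _
  rw [herm_smul_left, hb.bd, mul_zero]

include hK in
theorem vc_self (a : Fin 2 × Bool → K) (z : K) : hermForm N K q (vc b d a z) (vc b d a z) =
    ∑ x, a (op x) * a x ^ q + z * z ^ q := by
  conv_lhs => arg 5; unfold vc
  rw [herm_add_right hK, herm_sum_right hK, herm_smul_right, vc_d hb]
  congr 1
  · refine Finset.sum_congr rfl fun x _ => ?_
    rw [herm_smul_right]
    have h1 := vc_b hb a z (op x)
    rw [op_op] at h1
    rw [h1, mul_comm]
  · rw [mul_comm]

theorem vc_ne_of_a {a : Fin 2 × Bool → K} {z : K} {x : Fin 2 × Bool} (h : a x ≠ 0) : vc b d a z ≠ 0 := by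
  intro h0
  have h1 := vc_b hb a z x
  rw [h0, herm_zero_left] at h1
  exact h h1.symm

end frame

/-! ### The independence of the monomials -/

section indep

variable {K k : Type*} [Field K] [Fintype K] [Field k] {q : ℕ}

/-- **the independence**, in coordinates -/
theorem coef_zero (hK : Fintype.card K = q ^ 2) (σ : K →+* k) {c : ℕ} (hc0 : c ≠ 0) (hc : c < Fintype.card K)
    {M M₁ : Finset ℕ} (hM : ∀ m ∈ M, 0 < m ∧ m < c) (hM₁ : M₁ ⊆ M) (P : Fin 2 × Bool → k)
    (A : Bool → Bool → M → k) (E : Fin 2 × Bool → M₁ → k)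
    (h : ∀ (a : Fin 2 × Bool → K) (z : K), (∃ x, a x ≠ 0) → ∑ x, a (op x) * a x ^ q + z * z ^ q = 0 →
      ∑ x, P x * σ (a x) ^ c + ∑ e, ∑ e', ∑ m : M, A e e' m * (σ (a (0, e)) ^ (m : ℕ) * σ (a (1, e')) ^ (c - m)) +
        ∑ x, ∑ m : M₁, E x m * (σ z ^ (m : ℕ) * σ (a x) ^ (c - m)) = 0) :
    (∀ x, P x = 0) ∧ (∀ e e' m, A e e' m = 0) ∧ ∀ x m, E x m = 0 := by
  classical
  have hq := (q_pos hK).ne'
  -- first step
  have h1 : ∀ e e', P (0, e) = 0 ∧ P (1, e') = 0 ∧ ∀ m, A e e' m = 0 := by
    intro e e'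
    let u : ℕ → k := fun i => (if i = c then P (0, e) else 0) + (if i = 0 then P (1, e') else 0) +
      ∑ m : M, if i = m then A e e' m else 0
    have hu : ∀ s : K, ∑ i ∈ Finset.range (c + 1), σ s ^ i • u i ∈ (⊥ : Submodule k k) := by
      intro s
      rw [Submodule.mem_bot]
      let a : Fin 2 × Bool → K := fun x => if x = (0, e) then s else if x = (1, e') then 1 else 0
      have ha := h a 0 ⟨(1, e'), by simp [a]⟩ (by
        rw [zero_mul, add_zero]
        refine Finset.sum_eq_zero fun x _ => ?_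
        have : a (op x) = 0 ∨ a x = 0 := by
          simp only [a, op]
          obtain ⟨i, b⟩ := x
          fin_cases i <;> cases b <;> cases e <;> cases e' <;> simp
        rcases this with h2 | h2
        · rw [h2, zero_mul]
        · rw [h2, zero_pow hq, mul_zero])
      have e3 : ∑ x, ∑ m : M₁, E x m * (σ (0 : K) ^ (m : ℕ) * σ (a x) ^ (c - m)) = 0 := by
        refine Finset.sum_eq_zero fun x _ => Finset.sum_eq_zero fun m _ => ?_
        rw [map_zero, zero_pow (hM m (hM₁ m.2)).1.ne', zero_mul, mul_zero]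
      rw [e3, add_zero] at ha
      have e1 : ∑ x, P x * σ (a x) ^ c = P (0, e) * σ s ^ c + P (1, e') := by
        rw [Fintype.sum_prod_type, Fin.sum_univ_two, Fintype.sum_bool, Fintype.sum_bool]
        cases e <;> cases e' <;> simp [a, hc0]
      have e2 : ∑ f, ∑ f', ∑ m : M, A f f' m * (σ (a (0, f)) ^ (m : ℕ) * σ (a (1, f')) ^ (c - m)) =
          ∑ m : M, A e e' m * σ s ^ (m : ℕ) := by
        rw [Finset.sum_eq_single e, Finset.sum_eq_single e']
        · refine Finset.sum_congr rfl fun m _ => ?_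
          simp [a]
        · intro f' _ hf'
          refine Finset.sum_eq_zero fun m _ => ?_
          have h5 : a (1, f') = 0 := by simp [a, hf']
          rw [h5, map_zero, zero_pow (by have := (hM m m.2).2; omega), mul_zero, mul_zero]
        · intro h4; exact absurd (Finset.mem_univ _) h4
        · intro f _ hf
          refine Finset.sum_eq_zero fun f' _ => Finset.sum_eq_zero fun m _ => ?_
          have h5 : a (0, f) = 0 := by simp [a, hf]
          rw [h5, map_zero, zero_pow (hM m m.2).1.ne', zero_mul, mul_zero]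
        · intro h4; exact absurd (Finset.mem_univ _) h4
      rw [e1, e2] at ha
      rw [← ha]
      simp only [u, smul_eq_mul, mul_add, Finset.sum_add_distrib, mul_ite, mul_zero, Finset.mul_sum]
      congr 1
      · congr 1
        · rw [Finset.sum_ite_eq', if_pos (by simp), mul_comm]
        · rw [Finset.sum_ite_eq', if_pos (by simp), pow_zero, one_mul]
      · rw [Finset.sum_comm]
        refine Finset.sum_congr rfl fun m _ => ?_
        rw [Finset.sum_ite_eq', if_pos (by have := (hM m m.2).2; simp; omega), mul_comm]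
    have hall : ∀ i ≤ c, u i = 0 := fun i hi => (Submodule.mem_bot k).1 (mem_of_poly σ ⊥ hc u hu hi)
    refine ⟨?_, ?_, fun m => ?_⟩
    · have h2 := hall c le_rfl
      simp only [u, if_pos, if_neg hc0, add_zero] at h2
      rw [Finset.sum_eq_zero, add_zero] at h2
      · exact h2
      · intro m _
        rw [if_neg]
        have := (hM m m.2).2
        omega
    · have h2 := hall 0 (Nat.zero_le _)
      simp only [u, if_pos, if_neg hc0.symm, zero_add] at h2
      rw [Finset.sum_eq_zero, add_zero] at h2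
      · exact h2
      · intro m _
        rw [if_neg]
        have := (hM m m.2).1
        omega
    · have hm := hM m m.2
      have h2 := hall m hm.2.le
      simp only [u] at h2
      rw [if_neg hm.2.ne, if_neg hm.1.ne', zero_add, zero_add, Finset.sum_eq_single m] at h2
      · rwa [if_pos rfl] at h2
      · intro m' _ hm'
        rw [if_neg]
        intro h3
        exact hm' (Subtype.ext h3.symm)
      · intro h4; exact absurd (Finset.mem_univ _) h4
  have hP : ∀ x, P x = 0 := by
    rintro ⟨i, e⟩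
    fin_cases i
    · exact (h1 e e).1
    · exact (h1 e e).2.1
  have hA : ∀ e e' m, A e e' m = 0 := fun e e' => (h1 e e').2.2
  refine ⟨hP, hA, ?_⟩
  -- second step
  obtain ⟨s, hs⟩ := exists_trace_eq hK (c := (-1 : K)) (by rw [neg_pow_q hK, one_pow])
  intro y m₀
  let x : Fin 2 × Bool := (1 - y.1, true)
  let u : ℕ → k := fun i => (if i = 0 then ∑ m : M₁, E x m + ∑ m : M₁, E (op x) m * σ s ^ (c - m) else 0) +
    ∑ m : M₁, if i = c - m then E y m else 0
  have hu : ∀ r : K, ∑ i ∈ Finset.range (c + 1), σ r ^ i • u i ∈ (⊥ : Submodule k k) := by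
    intro r
    rw [Submodule.mem_bot]
    let a : Fin 2 × Bool → K := fun w => if w = x then 1 else if w = op x then s else if w = y then r else 0
    have ha := h a 1 ⟨x, by simp [a]⟩ (by
      rw [Fintype.sum_prod_type, Fin.sum_univ_two, Fintype.sum_bool, Fintype.sum_bool, one_mul, one_pow]
      obtain ⟨i, e⟩ := y
      fin_cases i <;> cases e <;> simp [a, x, op, hq] <;> linear_combination hs)
    simp only [hP, hA, zero_mul, Finset.sum_const_zero, add_zero, zero_add, map_one, one_pow, one_mul] at ha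
    have e1 : ∑ w, ∑ m : M₁, E w m * σ (a w) ^ (c - m) =
        ∑ m : M₁, E x m + ∑ m : M₁, E (op x) m * σ s ^ (c - m) + ∑ m : M₁, E y m * σ r ^ (c - m) := by
      have hz : ∀ w m, a w = 0 → E w m * σ (a w) ^ (c - (m : M₁)) = 0 := by
        intro w m hw
        rw [hw, map_zero, zero_pow (by have := (hM m (hM₁ m.2)).2; omega), mul_zero]
      have hy : a (op y) = 0 := by
        obtain ⟨i, e⟩ := y
        fin_cases i <;> cases e <;> simp [a, x, op]
      have hyy : a y = r := by
        obtain ⟨i, e⟩ := y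
        fin_cases i <;> cases e <;> simp [a, x, op]
      have hx : a x = 1 := by simp [a]
      have hxx : a (op x) = s := by simp [a, x, op]
      have hsum : ∀ g : Fin 2 × Bool → k, ∑ w, g w = g x + g (op x) + g y + g (op y) := by
        intro g
        rw [Fintype.sum_prod_type, Fin.sum_univ_two, Fintype.sum_bool, Fintype.sum_bool]
        obtain ⟨i, e⟩ := y
        fin_cases i <;> cases e <;> simp [x, op] <;> ring
      rw [hsum]
      rw [Finset.sum_eq_zero (s := Finset.univ) (f := fun m : M₁ => E (op y) m * σ (a (op y)) ^ (c - (m : ℕ)))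
        (fun m _ => hz _ m hy), add_zero, hx, hxx, hyy]
      simp
    rw [e1] at ha
    rw [← ha]
    simp only [u, smul_eq_mul, mul_add, Finset.sum_add_distrib, mul_ite, mul_zero, Finset.mul_sum]
    congr 1
    · rw [Finset.sum_ite_eq', if_pos (by simp), pow_zero]
      simp only [one_mul]
    · rw [Finset.sum_comm]
      refine Finset.sum_congr rfl fun m _ => ?_
      rw [Finset.sum_ite_eq', if_pos (by simp), mul_comm]
  have hall : ∀ i ≤ c, u i = 0 := fun i hi => (Submodule.mem_bot k).1 (mem_of_poly σ ⊥ hc u hu hi)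
  have hm := hM m₀ (hM₁ m₀.2)
  have h2 := hall (c - m₀) (Nat.sub_le _ _)
  simp only [u] at h2
  rw [if_neg (by omega), zero_add, Finset.sum_eq_single m₀] at h2
  · rwa [if_pos rfl] at h2
  · intro m' _ hm'
    rw [if_neg]
    intro h3
    have hm2 := hM m' (hM₁ m'.2)
    exact hm' (Subtype.ext (by omega))
  · intro h4; exact absurd (Finset.mem_univ _) h4

end indep

/-! ### The rank -/

/-- nonzero isotropic vectors -/
def Is (q N : ℕ) (K : Type*) [Field K] : Type _ := {v : Fin N → K // hermForm N K q v v = 0 ∧ v ≠ 0}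

section rank

variable {K k : Type*} [Field K] [Fintype K] [Field k] {q N : ℕ}

instance finite_Is : Finite (Is q N K) := by unfold Is; infer_instance

/-- the kernel -/
def kr (q N : ℕ) (σ : K →+* k) (c : ℕ) (w v : Is q N K) : k := σ (hermForm N K q v.1 w.1) ^ c

/-- the space of the rows -/
def Rw (q N : ℕ) (σ : K →+* k) (c : ℕ) : Submodule k (Is q N K → k) := Submodule.span k (Set.range (kr q N σ c))

variable (hK : Fintype.card K = q ^ 2) {σ : K →+* k} {c : ℕ} (hc0 : c ≠ 0)
include hK hc0

theorem row_mem {w : Fin N → K} (hw : hermForm N K q w w = 0) :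
    (fun v : Is q N K => σ (hermForm N K q v.1 w) ^ c) ∈ Rw q N σ c := by
  by_cases h0 : w = 0
  · have : (fun v : Is q N K => σ (hermForm N K q v.1 w) ^ c) = 0 := by
      funext v
      rw [h0, herm_zero_right hK, map_zero, zero_pow hc0]
      rfl
    rw [this]
    exact zero_mem _
  · exact Submodule.subset_span ⟨⟨w, hw, h0⟩, rfl⟩

theorem two_mem (hc : c < Fintype.card K) {a b : Fin N → K} (ha : hermForm N K q a a = 0)
    (hb : hermForm N K q b b = 0) (hab : hermForm N K q a b = 0) {m : ℕ} (hm : m ≤ c)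
    (hcm : ((c.choose m : ℕ) : k) ≠ 0) :
    (fun v : Is q N K => σ (hermForm N K q v.1 a) ^ m * σ (hermForm N K q v.1 b) ^ (c - m)) ∈ Rw q N σ c := by
  have hba : hermForm N K q b a = 0 := herm_eq_zero_swap hK hab
  let u : ℕ → (Is q N K → k) := fun m v => ((c.choose m : ℕ) : k) *
    (σ (hermForm N K q v.1 a) ^ m * σ (hermForm N K q v.1 b) ^ (c - m))
  have h1 : u m ∈ Rw q N σ c := by
    refine mem_of_poly σ (Rw q N σ c) hc u (fun s => ?_) hm
    have h2 := row_mem (σ := σ) (c := c) hK hc0 (w := s ^ q • a + b) (by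
      rw [herm_add_left, herm_add_right hK, herm_add_right hK, herm_smul_left, herm_smul_left, herm_smul_right,
        herm_smul_right, ha, hab, hba, hb]
      ring)
    convert h2 using 1
    funext v
    rw [Finset.sum_apply, herm_add_right hK, herm_smul_right, pow_q_pow_q hK, map_add, map_mul, add_pow]
    refine Finset.sum_congr rfl fun i _ => ?_
    simp only [u, Pi.smul_apply, smul_eq_mul]
    ring
  have h2 := (Rw q N σ c).smul_mem ((c.choose m : ℕ) : k)⁻¹ h1
  convert h2 using 1
  funext v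
  simp only [u, Pi.smul_apply, smul_eq_mul]
  rw [inv_mul_cancel_left₀ hcm]

variable {b : Fin 2 × Bool → Fin N → K} {d : Fin N → K} (hb : IsFr q b d)
include hb

theorem mono_mem (hc : c < Fintype.card K) {x y : Fin 2 × Bool} (hxy : x.1 ≠ y.1) {m : ℕ} (hm : m ≤ c)
    (hcm : ((c.choose m : ℕ) : k) ≠ 0) :
    (fun v : Is q N K => σ (hermForm N K q v.1 (b x)) ^ m * σ (hermForm N K q v.1 (b y)) ^ (c - m)) ∈
      Rw q N σ c := by
  have h1 : ∀ z, hermForm N K q (b z) (b z) = 0 := by
    rintro ⟨i, e⟩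
    rw [hb.bb, if_neg]
    cases e <;> simp [op]
  refine two_mem hK hc0 hc (h1 x) (h1 y) ?_ hm hcm
  rw [hb.bb, if_neg]
  intro h2
  exact hxy (congrArg Prod.fst h2).symm

theorem dmono_mem (hc : c < Fintype.card K) {p : ℕ} [hp : Fact p.Prime] [CharP k p] {y : Fin 2 × Bool} {m e : ℕ}
    (hme : m = p ^ e) (hm : m ≤ c) (hcm : ((c.choose m : ℕ) : k) ≠ 0) :
    (fun v : Is q N K => σ (hermForm N K q v.1 d) ^ m * σ (hermForm N K q v.1 (b y)) ^ (c - m)) ∈
      Rw q N σ c := by
  obtain ⟨s, hs⟩ := exists_trace_eq hK (c := (-1 : K)) (by rw [neg_pow_q hK, one_pow])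
  let x : Fin 2 × Bool := (1 - y.1, true)
  have hxy : x.1 ≠ y.1 := by
    obtain ⟨i, e⟩ := y
    fin_cases i <;> simp [x]
  have hxy' : (op x).1 ≠ y.1 := hxy
  have hbb : ∀ z, hermForm N K q (b z) (b z) = 0 := by
    rintro ⟨i, e⟩
    rw [hb.bb, if_neg]
    cases e <;> simp [op]
  have h1 := two_mem (σ := σ) hK hc0 hc (a := b x + (d + s • b (op x))) (b := b y) (by
    rw [herm_add_left, herm_add_left, herm_smul_left, herm_add_right hK, herm_add_right hK, herm_smul_right,
      herm_add_right hK, herm_add_right hK, herm_smul_right, herm_add_right hK, herm_add_right hK, herm_smul_right,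
      hbb, hbb, hb.bd, hb.bd, hb.db, hb.db, hb.dd, hb.bb, hb.bb, if_pos rfl, if_pos (op_op x).symm]
    linear_combination hs) (hbb y) (by
    have h2 : ∀ z : Fin 2 × Bool, z.1 ≠ y.1 → hermForm N K q (b z) (b y) = 0 := by
      intro z hz
      rw [hb.bb, if_neg]
      intro h2
      exact hz (congrArg Prod.fst h2).symm
    rw [herm_add_left, herm_add_left, herm_smul_left, hb.db, h2 _ hxy, h2 _ hxy']
    ring) hm hcm
  have h2 := mono_mem (σ := σ) hK hc0 hb hc hxy hm hcm
  have h3 := (Rw q N σ c).smul_mem (σ (s ^ q) ^ m) (mono_mem (σ := σ) hK hc0 hb hc hxy' hm hcm)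
  have h4 := (Rw q N σ c).sub_mem ((Rw q N σ c).sub_mem h1 h2) h3
  convert h4 using 1
  funext v
  simp only [Pi.sub_apply, Pi.smul_apply, smul_eq_mul]
  rw [herm_add_right hK, herm_add_right hK, herm_smul_right, map_add, map_add, map_mul, hme, add_pow_char_pow,
    add_pow_char_pow, mul_pow]
  ring

omit [Fintype K] hK hc0 hb in
theorem sum_three {M : Type*} [Fintype M] (G : Bool × Bool × M → k) :
    ∑ t, G t = ∑ e, ∑ e', ∑ m, G (e, e', m) := by
  rw [Fintype.sum_prod_type]
  exact Finset.sum_congr rfl fun e _ => Fintype.sum_prod_type _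

/-- **The lower bound for the rank.** -/
theorem rank_ge (hc : c < Fintype.card K) {p : ℕ} [hp : Fact p.Prime] [CharP k p] {M M₁ : Finset ℕ}
    (hM : ∀ m ∈ M, 0 < m ∧ m < c ∧ ((c.choose m : ℕ) : k) ≠ 0) (hM₁ : M₁ ⊆ M) (hpw : ∀ m ∈ M₁, ∃ e, m = p ^ e) :
    4 + 4 * M.card + 4 * M₁.card ≤ Module.finrank k (Rw q N σ c) := by
  classical
  -- the coordinates
  let α : Fin 2 × Bool → Is q N K → k := fun x v => σ (hermForm N K q v.1 (b (op x)))
  let ζ : Is q N K → k := fun v => σ (hermForm N K q v.1 d)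
  let g : ((Fin 2 × Bool) ⊕ ((Bool × Bool × M) ⊕ ((Fin 2 × Bool) × M₁))) → Rw q N σ c := Sum.elim
    (fun x => ⟨fun v => α x v ^ c, by
      have h1 := mono_mem (σ := σ) hK hc0 hb hc (x := op x) (y := (1 - x.1, true)) (by
        obtain ⟨i, e⟩ := x
        fin_cases i <;> simp [op]) le_rfl (by rw [Nat.choose_self]; simp)
      simpa using h1⟩)
    (Sum.elim
      (fun t => ⟨fun v => α (0, t.1) v ^ (t.2.2 : ℕ) * α (1, t.2.1) v ^ (c - t.2.2),
        mono_mem (σ := σ) hK hc0 hb hc (x := op (0, t.1)) (y := op (1, t.2.1)) (by simp [op])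
          (hM _ t.2.2.2).2.1.le (hM _ t.2.2.2).2.2⟩)
      (fun t => ⟨fun v => ζ v ^ (t.2 : ℕ) * α t.1 v ^ (c - t.2), by
        obtain ⟨e, he⟩ := hpw _ t.2.2
        exact dmono_mem (σ := σ) hK hc0 hb hc he (hM _ (hM₁ t.2.2)).2.1.le (hM _ (hM₁ t.2.2)).2.2⟩))
  have hli : LinearIndependent k g := by
    rw [Fintype.linearIndependent_iff]
    intro a ha
    have h0 : ∀ v : Is q N K, ∑ x, a (Sum.inl x) * α x v ^ c +
        ∑ e, ∑ e', ∑ m : M, a (Sum.inr (Sum.inl (e, e', m))) * (α (0, e) v ^ (m : ℕ) * α (1, e') v ^ (c - m)) +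
        ∑ x, ∑ m : M₁, a (Sum.inr (Sum.inr (x, m))) * (ζ v ^ (m : ℕ) * α x v ^ (c - m)) = 0 := by
      intro v
      have h1 := congrFun (congrArg Subtype.val ha) v
      rw [Submodule.coe_sum, Finset.sum_apply, Fintype.sum_sum_type, Fintype.sum_sum_type, sum_three,
        Fintype.sum_prod_type (α₁ := Fin 2 × Bool), ← add_assoc] at h1
      exact h1
    have key := coef_zero (k := k) hK σ hc0 hc (fun m hm => ⟨(hM m hm).1, (hM m hm).2.1⟩) hM₁
      (fun x => a (Sum.inl x)) (fun e e' m => a (Sum.inr (Sum.inl (e, e', m))))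
      (fun x m => a (Sum.inr (Sum.inr (x, m)))) (by
        rintro z t ⟨x, hx⟩ hz
        have h1 := h0 ⟨vc b d z t, by rw [vc_self hK hb, hz], vc_ne_of_a hb hx⟩
        simp only [α, ζ, vc_b hb, vc_d hb] at h1
        exact h1)
    rintro (x | ⟨e, e', m⟩ | ⟨x, m⟩)
    · exact key.1 x
    · exact key.2.1 e e' m
    · exact key.2.2 x m
  have hfin : Module.Finite k (Rw q N σ c) := FiniteDimensional.span_of_finite k (Set.finite_range _)
  have h1 := hli.fintype_card_le_finrank
  simp only [Fintype.card_sum, Fintype.card_prod, Fintype.card_coe, Fintype.card_bool, Fintype.card_fin] at h1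
  omega

end rank

end Cfsg.Agent.H69.Ppd
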