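import Cfsg.Agent.H69.Ppd.SUNat
import Cfsg.Agent.H69.Ppd.KerFive
import Cfsg.Agent.H525.Ppd.UBound

/-!
# Representations of `SU(N, q)` of the type of the natural module (helper69, TEAM PPD)

`2 ≤ m`, `W` a Witt frame of rank `m`, `o` the first node, `φ : SU N K q → GL(ι, F)` with absolutely irreducible
image `P`, `|K| = |F| ^ j`.

* `exists_tor` : `ψ : T → Kˣ` is surjective;
* `tor_fix` : if `i ∈ J` for `i ≠ o` then `t ∈ T` with `ψ(t) = 1` fixes `V^U`;
* `exists_pow` : `χ(t) = σ(ψ(t)) ^ c`, `1 ≤ c < |K|`;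
* **`first_bound`** : if `J = {i | i ≠ o}` then `rank (σ (h(x, y)) ^ rep |F| c' j) ≤ |ι|` for some `1 ≤ c' < |F|`.
-/

set_option autoImplicit false
set_option linter.unusedSectionVars false

namespace Cfsg.Agent.H69.Ppd

open CoxeterSystem Cfsg.Agent.ChevalleyStructure.CoxeterGeom Cfsg.Agent.Tits.Roots Cfsg.Agent.Nodes.TypeC
open Cfsg.Agent.Nodes.Comb Cfsg.Agent.Nodes.Reps Cfsg.Agent.Nodes.WittRoot Cfsg.Agent.Nodes.BNOf
open Cfsg.Agent.Nodes.WittRGD Cfsg.Agent.Nodes.RGDLib Cfsg.Agent.Nodes.WittAll Cfsg.Agent.Nodes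
open Cfsg.Agent.TitsThree Cfsg.Agent.TitsThree.Siegel Cfsg.Agent.TitsThree.WittFrame
  Cfsg.Agent.TitsThree.WittWeyl Cfsg.Agent.TitsThree.FrameCN
open Cfsg.Agent.LieClassical.HermBasic Cfsg.Agent.LieClassical.HermSiegel Cfsg.Agent.LieClassical.HermGen
open Cfsg.Agent.TitsThree.KSideU Cfsg.Agent.TitsThree.KSideUDesc Cfsg.Agent.Nodes.WittU
  Cfsg.Agent.TitsThree.WBridge Cfsg.Agent.TitsThree.SiegelGen Cfsg.Agent.H61.SUCross
open Cfsg.Agent.Nodes.Bruhat Cfsg.Agent.Nodes.OppDec Cfsg.Agent.Nodes.LeviDec Cfsg.Agent.KFacts.RgdOpp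
  Cfsg.Agent.Omega.CR Cfsg.Agent.Omega.FOne.Lift.Sd Cfsg.Agent.H911 Cfsg.Agent.H905.Md Cfsg.Agent.H156.Ppd
open Cfsg Cfsg.Geo Cfsg.Agent.H67 Cfsg.Agent.KFacts.MulOdd.Shrink Cfsg.Agent.KFacts.MulOdd.Inst
open scoped MatrixGroups Matrix

variable {K : Type} [Field K] [Fintype K] {q N m : ℕ} {hK : Fintype.card K = q ^ 2} (hN : 3 ≤ N)
  (W : WFrame (PU hK N) m) {o : Fin m}

/-- the torus acts on `e_o` by all scalars -/
theorem exists_tor (hm : 1 < m) (ho : (o : ℕ) = 0) {a : K} (ha : a ≠ 0) :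
    ∃ t ∈ WittModel.T (modelSU hK hN W), psi W o t = a := by
  have h1 : (o : ℕ) + 1 < m := by omega
  have hne : ((o, true) : Fin m × Bool).1 ≠ (nx o).1 := H61.SUNode.ne_nx h1
  have hA : Amb (toFrame W) (IU K q N) := amb_U hK W
  have h2 := tor_of_mono (nX_mem hA (o, true) (nx o) a) (nX_mem hA (o, true) (nx o) 1)
    (mono_nX (Fr := toFrame W) h1 ha) (mono_nX (Fr := toFrame W) h1 one_ne_zero)
  obtain ⟨t, ht⟩ := h2.1
  have ht1 : t ∈ WittModel.T (modelSU hK hN W) := by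
    rw [T_eq, Subgroup.mem_comap, ht]
    exact h2
  refine ⟨t, ht1, ?_⟩
  have h3 : (nX (toFrame W) (o, true) (nx o) 1)⁻¹ (W.e o) = (toFrame W).b (neg (nx o)) := by
    have h4 := nX_apply_neg (toFrame W) hne (one_ne_zero (α := K))
    rw [_root_.one_smul] at h4
    change (nX (toFrame W) (o, true) (nx o) 1).symm (W.e o) = _
    rw [LinearEquiv.symm_apply_eq, h4]
    rfl
  have h5 : act t (W.e o) = a • W.e o := by
    change toLin K q N t (W.e o) = _
    rw [ht, mul_apply', h3, nX_apply_neg (toFrame W) hne ha]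
    rfl
  unfold psi
  rw [h5, herm_smul_left, herm_ef, mul_one]

theorem Lv_fix {Y k V I : Type*} [DecidableEq I] [Group Y] [Field k] [AddCommGroup V] [Module k V]
    {X : (I → ℤ) → Subgroup Y}
    {ρ : Y →* Module.End k V} {v : V} {i : I} (h1 : ∀ x ∈ X (sr i), ρ x v = v)
    (h2 : ∀ x ∈ X (-sr i), ρ x v = v) {t : Y} (ht : t ∈ Lv X i) : ρ t v = v := by
  have h3 : Lv X i ≤ Cfsg.Agent.H353.Ker.stab ρ v := sup_le h1 h2
  exact h3 ht

section

variable {Wg : Type*} [Group Wg] {cs : CoxeterSystem (CoxeterMatrix.B m) Wg}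
  {k V : Type*} [Field k] [AddCommGroup V] [Module k V] {ρ : SU N K q →* Module.End k V}

/-- **The elements of the torus with `ψ(t) = 1` fix `V^U`** -/
theorem tor_fix (hm : 1 < m) (ho : (o : ℕ) = 0) (hW : Kind W)
    (hJ : ∀ i, i ≠ o → i ∈ Jx cs (isCartan m) (WittModel.X (modelSU hK hN W)) ρ) {v : V}
    (hv : v ∈ D cs (isCartan m) (WittModel.X (modelSU hK hN W)) ρ) {t : SU N K q}
    (ht : t ∈ WittModel.T (modelSU hK hN W)) (h1 : psi W o t = 1) : ρ t v = v := by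
  haveI : Finite Wg := finite_W cs
  obtain ⟨p, hp⟩ := CharP.exists K
  haveI : Fact p.Prime := ⟨CharP.char_is_prime K p⟩
  obtain ⟨p0, hp0, -⟩ := exists_adm hK W
  have hA : AmbT (toFrame W) p (modelSU hK hN W).I := AmbT.of_amb (amb_U hK W) p
  have R := rgdC_model (modelSU hK hN W) hA hp0 cs
  have hG : G1 cs (isCartan m) (WittModel.X (modelSU hK hN W)) = ⊤ := WittModel.G1_eq_top _ (by omega) _
  have hcomm : ∀ s ∈ WittModel.T (modelSU hK hN W), ∀ t ∈ WittModel.T (modelSU hK hN W), s * t = t * s :=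
    modelT_comm hA (kd_su hW)
  set T := WittModel.T (modelSU hK hN W) with hT
  set X := WittModel.X (modelSU hK hN W) with hX
  -- `t = t₀ s`
  let S : Subgroup (SU N K q) :=
    { carrier := {t | ∃ t₀ ∈ T ⊓ Lv X o, ∃ s ∈ T, ρ s v = v ∧ act s (W.e o) = W.e o ∧ t = t₀ * s}
      one_mem' := ⟨1, one_mem _, 1, one_mem _, rho_one ρ v, act_one _, (one_mul _).symm⟩
      mul_mem' := by
        rintro _ _ ⟨t₀, ht₀, s, hs, h1, h2, rfl⟩ ⟨t₁, ht₁, s', hs', h1', h2', rfl⟩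
        refine ⟨t₀ * t₁, mul_mem ht₀ ht₁, s * s', mul_mem hs hs', by rw [rho_mul, h1', h1],
          by rw [act_mul, h2', h2], ?_⟩
        have h3 := hcomm s hs t₁ ht₁.1
        calc t₀ * s * (t₁ * s') = t₀ * (s * t₁) * s' := by group
          _ = t₀ * t₁ * (s * s') := by rw [h3]; group
      inv_mem' := by
        rintro _ ⟨t₀, ht₀, s, hs, h1, h2, rfl⟩
        refine ⟨t₀⁻¹, inv_mem ht₀, s⁻¹, inv_mem hs, ?_, ?_, ?_⟩
        · conv_lhs => rw [← h1]
          exact rho_inv_rho ρ s v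
        · conv_lhs => rw [← h2]
          exact act_inv_act s _
        · rw [mul_inv_rev]
          exact hcomm _ (inv_mem hs) _ (inv_mem ht₀.1) }
  have hTS : T ≤ S := by
    refine le_trans (torus_le R hG) (iSup_le fun i => ?_)
    intro t ht
    have ht' : t ∈ T ⊓ Lv X i := ht
    by_cases hi : i = o
    · subst hi
      exact ⟨t, ht', 1, one_mem _, rho_one ρ v, act_one _, (mul_one _).symm⟩
    · refine ⟨1, one_mem _, t, ht'.1, ?_, ?_, (one_mul _).symm⟩
      · exact Lv_fix (fun x hx => X_fix R ρ hv i hx) (fun x hx => hJ i hi x hx v hv) ht'.2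
      · have h3 := ht'.2
        rw [Lv_eq] at h3
        have hlt : o < i := by
          rw [Fin.lt_def, ho]
          have : (i : ℕ) ≠ 0 := fun h => hi (Fin.ext (h.trans ho.symm))
          omega
        exact H61.SUNode.fix_of_mem (Fr := toFrame W) hlt h3
  obtain ⟨t₀, ht₀, s, hs, h2, h3, rfl⟩ := hTS ht
  have h4 : t₀ = 1 := by
    have h5 : act (t₀ * s) (W.e o) = W.e o := by
      have := psi_spec hN W o ht
      rw [h1, _root_.one_smul] at this
      exact this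
    rw [act_mul, h3] at h5
    have h6 := ht₀.2
    rw [Lv_eq] at h6
    have h7 := ht₀.1
    rw [hT, T_eq] at h7
    have h8 := eq_one_of W hW o h6 h7.2 h5
    apply toLin_injective
    rw [h8, map_one]
  rw [h4, one_mul]
  exact h2

/-- `χ = σ(ψ) ^ c` -/
theorem exists_pow (hm : 1 < m) (ho : (o : ℕ) = 0) (hW : Kind W)
    (hJ : ∀ i, i ≠ o → i ∈ Jx cs (isCartan m) (WittModel.X (modelSU hK hN W)) ρ) {v : V} (hv0 : v ≠ 0)
    (hv : v ∈ D cs (isCartan m) (WittModel.X (modelSU hK hN W)) ρ) {χ : SU N K q → k}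
    (hχ : ∀ t ∈ WittModel.T (modelSU hK hN W), ρ t v = χ t • v) (σ : K →+* k) :
    ∃ c, 1 ≤ c ∧ c ≤ Fintype.card K - 1 ∧ ∀ t ∈ WittModel.T (modelSU hK hN W), χ t = σ (psi W o t) ^ c := by
  classical
  obtain ⟨p, hp⟩ := CharP.exists K
  haveI : Fact p.Prime := ⟨CharP.char_is_prime K p⟩
  have hA : AmbT (toFrame W) p (modelSU hK hN W).I := AmbT.of_amb (amb_U hK W) p
  have hpw : ∀ t ∈ WittModel.T (modelSU hK hN W), t ^ Fintype.card K = t :=
    modelT_pow hA (kd_su hW) (fun a => FiniteField.pow_card a)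
  have hcK : 1 < Fintype.card K := Fintype.one_lt_card
  obtain ⟨ω, hω⟩ := IsCyclic.exists_generator (α := Kˣ)
  obtain ⟨t₁, ht₁, hψ₁⟩ := exists_tor hN W hm ho ω.ne_zero
  have hord : orderOf ω = Fintype.card K - 1 := by
    rw [orderOf_eq_card_of_forall_mem_zpowers hω, Nat.card_eq_fintype_card, Fintype.card_units]
  have hpr : IsPrimitiveRoot (σ (ω : K)) (Fintype.card K - 1) := by
    have h1 : IsPrimitiveRoot ω (Fintype.card K - 1) := hord ▸ IsPrimitiveRoot.orderOf ω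
    have h2 : IsPrimitiveRoot (ω : K) (Fintype.card K - 1) := h1.map_of_injective (f := Units.coeHom K) Units.val_injective
    exact h2.map_of_injective σ.injective
  have h1 : t₁ ^ (Fintype.card K - 1) = 1 := by
    have h2 := hpw t₁ ht₁
    have h3 : Fintype.card K = (Fintype.card K - 1) + 1 := by omega
    rw [h3, pow_succ] at h2
    exact mul_eq_right.1 h2
  have hχ1 : χ t₁ ^ (Fintype.card K - 1) = 1 := by
    rw [← chi_pow hv0 hχ ht₁, h1]
    have h2 := hχ 1 (one_mem _)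
    rw [rho_one] at h2
    have h3 : (1 : k) • v = χ 1 • v := by rw [_root_.one_smul]; exact h2
    exact (smul_left_injective k hv0 h3).symm
  haveI : NeZero (Fintype.card K - 1) := ⟨by omega⟩
  obtain ⟨i, hi, hi'⟩ := hpr.eq_pow_of_pow_eq_one hχ1
  obtain ⟨c, hc1, hc2, hc⟩ : ∃ c, 1 ≤ c ∧ c ≤ Fintype.card K - 1 ∧ σ (ω : K) ^ c = χ t₁ := by
    by_cases h0 : i = 0
    · refine ⟨Fintype.card K - 1, by omega, le_rfl, ?_⟩
      rw [hpr.pow_eq_one, ← hi', h0, pow_zero]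
    · exact ⟨i, by omega, by omega, hi'⟩
  refine ⟨c, hc1, hc2, fun t ht => ?_⟩
  obtain ⟨l, hl⟩ : ∃ l : ℕ, ω ^ l = Units.mk0 (psi W o t) (psi_ne hN W o ht) := by
    have h2 := hω (Units.mk0 (psi W o t) (psi_ne hN W o ht))
    rwa [← mem_powers_iff_mem_zpowers, Submonoid.mem_powers_iff] at h2
  have hl' : psi W o t = (ω : K) ^ l := by
    have := congrArg Units.val hl
    rw [Units.val_pow_eq_pow_val, Units.val_mk0] at this
    exact this.symm
  have hψp : ∀ l : ℕ, psi W o (t₁ ^ l) = (ω : K) ^ l := by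
    intro l
    induction l with
    | zero =>
      rw [pow_zero, pow_zero]
      unfold psi
      rw [act_one, herm_ef]
    | succ l ih => rw [pow_succ, psi_mul hN W o (pow_mem ht₁ l) ht₁, ih, hψ₁, pow_succ]
  -- `t = s t₁ ^ l`
  obtain ⟨s, hs, rfl⟩ : ∃ s ∈ WittModel.T (modelSU hK hN W), t = s * t₁ ^ l :=
    ⟨t * (t₁ ^ l)⁻¹, mul_mem ht (inv_mem (pow_mem ht₁ l)), by group⟩
  have hs1 : psi W o s = 1 := by
    rw [psi_mul hN W o hs (pow_mem ht₁ l), hψp] at hl'
    exact mul_eq_right₀ (pow_ne_zero l ω.ne_zero) |>.1 hl'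
  have h2 := tor_fix hN W hm ho hW hJ hv hs hs1
  have h3 : χ (s * t₁ ^ l) = χ t₁ ^ l := by
    have h4 := hχ _ ht
    rw [rho_mul, hχ _ (pow_mem ht₁ l), map_smul, h2, chi_pow hv0 hχ ht₁] at h4
    exact (smul_left_injective k hv0 h4).symm
  rw [h3, hl', map_pow, ← hc, ← pow_mul, ← pow_mul, mul_comm]

end

/-- the exponent -/
theorem exp_form {k : Type*} [Field k] {c Q j : ℕ} (hQ : 2 ≤ Q) (hj : Q ^ j = Fintype.card K) (σ : K →+* k)
    (hc1 : 1 ≤ c) (hc2 : c ≤ Fintype.card K - 1) (hfix : ∀ a : K, a ≠ 0 → (σ a ^ c) ^ Q = σ a ^ c) :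
    ∃ c', 1 ≤ c' ∧ c' < Q ∧ c = Cfsg.Agent.H525.Ppd.rep Q c' j := by
  classical
  have hcK : 1 < Fintype.card K := Fintype.one_lt_card
  have hj0 : j ≠ 0 := by
    rintro rfl
    rw [pow_zero] at hj
    omega
  have hdvd : Fintype.card K - 1 ∣ c * (Q - 1) := by
    obtain ⟨t, ht⟩ := IsCyclic.exists_generator (α := Kˣ)
    have h1 : orderOf t = Fintype.card K - 1 := by
      rw [orderOf_eq_card_of_forall_mem_zpowers ht, Nat.card_eq_fintype_card, Fintype.card_units]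
    rw [← h1]
    apply orderOf_dvd_of_pow_eq_one
    apply Units.ext
    rw [Units.val_pow_eq_pow_val, Units.val_one]
    apply σ.injective
    rw [map_pow, map_one]
    have h3 := hfix t t.ne_zero
    rw [← pow_mul] at h3
    have h5 : c * Q = c * (Q - 1) + c := by
      rw [Nat.mul_sub, mul_one, Nat.sub_add_cancel (Nat.le_mul_of_pos_right _ (by omega))]
    rw [h5, pow_add] at h3
    exact mul_right_cancel₀ (pow_ne_zero c ((map_ne_zero σ).2 t.ne_zero)) (h3.trans (one_mul _).symm)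
  set R := ∑ i ∈ Finset.range j, Q ^ i with hR
  have hgeom : R * (Q - 1) = Fintype.card K - 1 := by
    rw [← hj, hR]
    exact geom_sum_mul_of_one_le (by omega) j
  have hRa : R ∣ c := by
    rw [← hgeom] at hdvd
    exact Nat.dvd_of_mul_dvd_mul_right (by omega) hdvd
  obtain ⟨c', hca⟩ := hRa
  have hR1 : 1 ≤ R := by
    rcases Nat.eq_zero_or_pos R with h0 | h0
    · rw [h0, zero_mul] at hca
      omega
    · exact h0
  refine ⟨c', ?_, ?_, by rw [hca, Cfsg.Agent.H525.Ppd.rep, mul_comm]⟩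
  · rcases Nat.eq_zero_or_pos c' with h0 | h0
    · rw [h0, mul_zero] at hca
      omega
    · exact h0
  · rw [hca, ← hgeom] at hc2
    have := Nat.le_of_mul_le_mul_left hc2 hR1
    omega

section

variable {Wg : Type*} [Group Wg] {cs : CoxeterSystem (CoxeterMatrix.B m) Wg} {F : Type*} [Field F] [Finite F]
  {ι : Type} [Fintype ι] [DecidableEq ι] [Nonempty ι] {P : Subgroup (GL ι F)} {φ : SU N K q →* GL ι F}

/-- **The kernel.** -/
theorem first_bound {p : ℕ} [hp : Fact p.Prime] [CharP F p] [CharP K p] (hm : 1 < m) (ho : (o : ℕ) = 0) (hW : Kind W)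
    (hφ : φ.range = P) (hP : ActsAbsolutelyIrreducibly (matrixSet P))
    (hJ : Jx cs (isCartan m) (WittModel.X (modelSU hK hN W)) (lrep φ) = {i | i ≠ o}) {j : ℕ}
    (hj : Nat.card F ^ j = Fintype.card K) (σ : K →+* AlgebraicClosure F) :
    ∃ c', 1 ≤ c' ∧ c' < Nat.card F ∧
      Module.finrank (AlgebraicClosure F) (Rw q N σ (Cfsg.Agent.H525.Ppd.rep (Nat.card F) c' j)) ≤ Fintype.card ι := by
  haveI : Finite Wg := finite_W cs
  have hcK : CharP (AlgebraicClosure F) p := charP_of_injective_algebraMap (algebraMap F _).injective p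
  obtain ⟨p0, hp0, -⟩ := exists_adm hK W
  have hA : AmbT (toFrame W) p (modelSU hK hN W).I := AmbT.of_amb (amb_U hK W) p
  have R := rgdC_model (modelSU hK hN W) hA hp0 cs
  have hm0 : 0 < m := by omega
  have hG : GG cs (isCartan m) (WittModel.T (modelSU hK hN W)) (WittModel.X (modelSU hK hN W)) = ⊤ :=
    gg_top (WittModel.G1_eq_top _ hm0 _)
  have hT : ∀ s ∈ WittModel.T (modelSU hK hN W), ∀ t ∈ WittModel.T (modelSU hK hN W), s * t = t * s :=
    modelT_comm hA (kd_su hW)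
  obtain ⟨w, hw0, hw1, hw2, χ, hχ⟩ := exists_w R hG hT hφ hP
  have hirr := ac_irr R hG hT hφ hP
  have hJ' : Jx cs (isCartan m) (WittModel.X (modelSU hK hN W)) (lin (acRep φ)) = {i | i ≠ o} := by
    rw [Jx_eq R hG hT hφ hP, hJ]
  have hwD : ac w ∈ D cs (isCartan m) (WittModel.X (modelSU hK hN W)) (lin (acRep φ)) := by
    rw [hw2]
    exact Submodule.mem_span_singleton_self _
  have hac0 : ac w ≠ 0 := fun h0 => hw0 (ac_inj (h0.trans ac_zero.symm))
  have hχ' : ∀ t ∈ WittModel.T (modelSU hK hN W), lin (acRep φ) t (ac w) =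
      (algebraMap F (AlgebraicClosure F) (χ t)) • ac w := by
    intro t ht
    rw [lin_ac, hχ t ht, ac_smul]
  obtain ⟨c, hc1, hc2, hc⟩ := exists_pow hN W hm ho hW (ρ := lin (acRep φ)) (cs := cs)
    (fun i hi => by rw [hJ']; exact hi) hac0 hwD hχ' σ
  have hQ2 : 2 ≤ Nat.card F := Finite.one_lt_card
  obtain ⟨c', h1, h2, h3⟩ := exp_form hQ2 hj σ hc1 hc2 (by
    intro a ha
    obtain ⟨t, ht, rfl⟩ := exists_tor hN W hm ho ha
    rw [← hc t ht, ← map_pow]
    congr 1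
    have := Fintype.ofFinite F
    rw [Nat.card_eq_fintype_card, FiniteField.pow_card])
  refine ⟨c', h1, h2, ?_⟩
  rw [← h3]
  have hne : Nontrivial (Fin N → K) := ⟨_, 0, e_ne_zero W o⟩
  have h4 := Cfsg.Agent.H353.Ker.le_finrank_of_pow R hirr (fun L hL => nat_irr hN W L hL hm0) hwD hac0
    (e_mem_D hN W hm ho) (e_ne_zero W o) (fdual_mem hN W hm ho) (fdual_ne W o)
    (by rw [hJ', Jx_nat hN W hm ho]) hχ' (fun t ht => psi_spec hN W o ht) σ (by omega) hc
    (fun v : Is q N K => v.1) (by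
      intro v
      obtain ⟨g, hg⟩ := exists_act hK hN (herm_ee W o) v.2.1 (e_ne_zero W o) v.2.2
      exact ⟨g, by rw [hG]; trivial, 1, one_ne_zero, by rw [_root_.one_smul]; exact hg⟩)
    (fun v : Is q N K => fdual (q := q) v.1) (by
      intro v
      obtain ⟨g, hg⟩ := exists_act hK hN (herm_ff W o) v.2.1 (f_ne_zero W o) v.2.2
      exact ⟨g, by rw [hG]; trivial, 1, one_ne_zero, by rw [_root_.one_smul, dual_fdual, hg]⟩)
  rw [Module.finrank_fintype_fun_eq_card] at h4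
  exact h4

end

end Cfsg.Agent.H69.Ppd
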